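import Cfsg.Agent.Mrg.Omega.NO1.Fr
import Cfsg.Agent.Mrg.Omega.NOne.Flat.Conj
import Cfsg.Prelude.Def_Exceptional
import Cfsg.Agent.Mrg.Omega.NOne.Flat.Off
import Cfsg.Agent.Mrg.Omega.FrameI

section


/-!
# THEOREM FIELD (#15909), (F0)

* `Inv.exists_mul` : `y ∈ N_G(D)`, `D ≤ V`: `y = c m`, `c ∈ C_G(D)`, `m ∈ M`;
* `Inv.exists_cent` : `V^y = V^c`, `c ∈ C_G(D)`;
* `Fr.exists_spr` : the instance of `Spr` of (F1), (F2) for a frame.
-/

set_option autoImplicit false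
set_option linter.unusedSectionVars false

namespace Cfsg.Agent.Omega.NO1

open Subgroup Cfsg Cfsg.Agent.ZN Cfsg.Agent.Omega.MinPar Cfsg.Agent.Omega.Frame
open Cfsg.Agent.ZN.ChoiceBase (cj mem_cj cj_mono cj_one cj_cj cj_inv_cj cj_cj_inv cj_le_iff card_cj
  mem_normalizer_iff_cj cj_eq_of_mem_normalizer mem_normalizer_of_cj_le isPGroup_cj cj_inf cj_normalizer
  cj_centralizer)
open Cfsg.Agent.ZN.ChoiceSit (Syl syl_conj exists_syl)
open Cfsg.Agent.Omega.NOne.Flat (Hyp BadX Sect EX HX Spr gi)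
open scoped Pointwise

universe u

variable {G : Type u} [Group G] [Finite G] {S : Sylow 2 G} {P M F : Subgroup G}

/-- **(F0)** `N_G(D) ≤ C_G(D) M` for `D ≤ V`. -/
theorem JMin.Inv.exists_mul (h : JMin.Inv (S : Subgroup G) P M) {D : Subgroup G} (hD : D ≤ zl (S : Subgroup G) M)
    {y : G} (hy : y ∈ normalizer (D : Set G)) : ∃ c ∈ centralizer (D : Set G), ∃ m ∈ M, y = c * m := by
  obtain ⟨T, hT⟩ := JMin.exists_syl_of (M ⊓ centralizer (D : Set G))
  have hT' := h.syl hD hT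
  have h1 : Syl (cj y T) (centralizer (D : Set G)) := by
    have h2 := JMin.syl_cj hT' y
    rwa [cj_centralizer, cj_eq_of_mem_normalizer hy] at h2
  obtain ⟨c, hc, hc'⟩ := syl_conj hT' h1
  refine ⟨c, hc, c⁻¹ * y, ?_, by group⟩
  apply h.normalizer_le hD hT
  rw [mem_normalizer_iff_cj, ← cj_cj, ← hc', cj_inv_cj]

/-- **(F0)** -/
theorem JMin.Inv.exists_cent (h : JMin.Inv (S : Subgroup G) P M) {D : Subgroup G}
    (hD : D ≤ zl (S : Subgroup G) M) {y : G} (hy : y ∈ normalizer (D : Set G)) :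
    ∃ c ∈ centralizer (D : Set G), MulAut.conj y • zl (S : Subgroup G) M = MulAut.conj c • zl (S : Subgroup G) M := by
  obtain ⟨c, hc, m, hm, rfl⟩ := h.exists_mul hD hy
  refine ⟨c, hc, ?_⟩
  rw [map_mul, mul_smul, NOne.Flat.conj_eq_of_norm (MinSimple.VModule.le_normalizer_zl (S : Subgroup G) M hm)]

/-- **(F1), (F2) for a frame**: the instance of `Spr` on `E E^x / F`. -/
theorem Fr.exists_spr (h : Fr S P M F) {x : G} (hx : x ∈ centralizer (F : Set G))
    (hb : BadX (zl (S : Subgroup G) M) x) {N : Type u} [Group N]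
    (s : Sect (HX (zl (S : Subgroup G) M) F x) (EX (zl (S : Subgroup G) M) F x) F N) :
    Spr (fun i => s.B (MulAut.conj (gi x i) • NOne.Flat.EE (zl (S : Subgroup G) M) F))
      (fun i => s.A (MulAut.conj (gi x i) • zl (S : Subgroup G) M)) := by
  refine h.hyp.exists_spr hx hb (fun y _ hyE => ?_) s
  refine h.inv.exists_cent (D := NOne.Flat.EE (zl (S : Subgroup G) M) F) inf_le_left ?_
  rw [mem_normalizer_iff_cj]
  exact hyE

end Cfsg.Agent.Omega.NO1

end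

section


/-!
# THEOREM FIELD for FLAT frames: literal targets (TCARD of N1-ONE)

* `HypF V F` : `Hyp V F`, no offender on `V` in module form, (F0);  `Fr.hypF`;
* FIELD-1 `SESpr` : LEMMA SE #16297 for `Spr` ;
* FIELD-2 : `K1` from `O3` (868) ;
* FIELD-4 `SzOut` : CLAIM A of THEOREM SZ ;
* FIELD-3 `NNOne`, `RPlus` ; FIELD-5 `NoSz` ; FIELD-6 `K1All`.
-/

set_option autoImplicit false
set_option linter.unusedSectionVars false

namespace Cfsg.Agent.Omega.NO1.Field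

open Subgroup Cfsg Cfsg.Agent.ZN Cfsg.Agent.Omega.MinPar Cfsg.Agent.Omega.Frame
open Cfsg.Agent.Omega.FFThm (OffM)
open Cfsg.Agent.Omega.NOne.NearFF (c)
open Cfsg.Agent.Omega.NOne.Flat (Hyp BadX Sect EX HX Spr gi)
open scoped Pointwise

universe u

/-- The FLAT frame with (F0) and no offender in module form. -/
structure HypF {G : Type u} [Group G] (V F : Subgroup G) : Prop extends Hyp V F where
  noffM : ∀ A : Subgroup G, A ≤ normalizer (V : Set G) → ¬ OffM V A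
  f0 : ∀ D : Subgroup G, D ≤ V → ∀ y ∈ normalizer (D : Set G),
    ∃ c ∈ centralizer (D : Set G), ∃ m ∈ normalizer (V : Set G), y = c * m

theorem _root_.Cfsg.Agent.Omega.NO1.Fr.hypF {G : Type u} [Group G] [Finite G] {S : Sylow 2 G} {P M F : Subgroup G}
    (h : Fr S P M F) : HypF (zl (S : Subgroup G) M) F where
  toHyp := h.hyp
  noffM := h.noffV
  f0 D hD y hy := by
    obtain ⟨c, hc, m, hm, e⟩ := h.inv.exists_mul hD hy
    exact ⟨c, hc, m, MinSimple.VModule.le_normalizer_zl (S : Subgroup G) M hm, e⟩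

/-- (F0) in the form of `Hyp.exists_spr`. -/
theorem HypF.f0' {G : Type u} [Group G] {V F : Subgroup G} (h : HypF V F) :
    ∀ y ∈ centralizer (F : Set G), MulAut.conj y • NOne.Flat.EE V F = NOne.Flat.EE V F →
      ∃ z ∈ centralizer (NOne.Flat.EE V F : Set G), MulAut.conj y • V = MulAut.conj z • V := by
  intro y _ hyE
  have hy : y ∈ normalizer (NOne.Flat.EE V F : Set G) := by
    rw [mem_normalizer_iff]
    intro x
    constructor
    · intro hx
      have h1 : y * x * y⁻¹ ∈ MulAut.conj y • NOne.Flat.EE V F := NoFF.Basic.mem_conj.2 (by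
        have e : y⁻¹ * (y * x * y⁻¹) * y = x := by group
        rwa [e])
      rwa [hyE] at h1
    · intro hx
      rw [← hyE, NoFF.Basic.mem_conj] at hx
      have e : y⁻¹ * (y * x * y⁻¹) * y = x := by group
      rwa [e] at hx
  obtain ⟨c, hc, m, hm, rfl⟩ := h.f0 (NOne.Flat.EE V F) (show V ⊓ o2 (centralizer (F : Set G)) ≤ V from inf_le_left) y hy
  refine ⟨c, hc, ?_⟩
  rw [map_mul, mul_smul, NOne.Flat.conj_eq_of_norm hm]

/-- `L ≅ Sz(q)` -/
def IsSz (L : Type u) [Group L] (q : ℕ) : Prop :=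
  Cfsg.Lie.IsoSuzuki L ∧ Nat.card L = q ^ 2 * (q ^ 2 + 1) * (q - 1)

/-- `(O3)` of #20083. -/
def O3 {M : Type u} [Group M] (A : Bool → Subgroup (MulAut M)) : Prop :=
  ∀ t ∈ A false, t ≠ 1 → ∃ v ∈ A true, v ≠ 1 ∧ (t * v) ^ 3 = 1

/-- **FIELD-1** (LEMMA SE #16297 for 970's `Spr`). -/
def SESpr : Prop :=
  ∀ (M : Type u) [Group M] [Finite M] (B : Bool → Subgroup M) (A : Bool → Subgroup (MulAut M)),
    Spr B A → 4 ≤ Nat.card (A false) → O3 A ∨ IsSz ↥(A false ⊔ A true) (Nat.card (A false))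

/-- **FIELD-4** (CLAIM A of THEOREM SZ): `T` the Sylow 2-subgroup of `N_L(A₀)`, `A₀ = Z(T)`, `K = C_{B₀}(T) = [B₀, T]`. -/
def SzOut : Prop :=
  ∀ (M : Type u) [Group M] [Finite M] (B : Bool → Subgroup M) (A : Bool → Subgroup (MulAut M)),
    Spr B A → 4 ≤ Nat.card (A false) → IsSz ↥(A false ⊔ A true) (Nat.card (A false)) →
      ∃ (T : Subgroup (MulAut M)) (K : Subgroup M), A false ≤ T ∧ T ≤ A false ⊔ A true ∧
        Nat.card T = Nat.card (A false) ^ 2 ∧ (∀ t ∈ T, ∀ a ∈ A false, t * a = a * t) ∧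
        (∀ t ∈ T, ∀ m ∈ B false, t m ∈ B false) ∧ K ≤ B false ∧ Nat.card K ^ 2 = Nat.card (B false) ∧
        (∀ t ∈ T, ∀ m ∈ B false, t m * m⁻¹ ∈ K) ∧ (∀ t ∈ T, ∀ m ∈ K, t m = m) ∧
        (∀ t ∈ T, (∀ m ∈ B false, t m = m) → t ∈ A false)

/-- **FIELD-3b** (#20083 (A)): `N_G(V) ∩ C_G(F)` is transitive on `(V / E)#`; `NN = 1`. -/
def NNOne : Prop :=
  ∀ (G : Type u) [Group G] [Finite G] (V F : Subgroup G), HypF V F →
    (∀ v ∈ V, v ∉ NOne.Flat.EE V F → ∀ w ∈ V, w ∉ NOne.Flat.EE V F →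
      ∃ h ∈ centralizer (F : Set G) ⊓ normalizer (V : Set G), (h * v * h⁻¹)⁻¹ * w ∈ NOne.Flat.EE V F) ∧
    ∀ g ∈ normalizer (V : Set G), (∀ v ∈ V, c v g ∈ F) → (∀ e ∈ NOne.Flat.EE V F, c e g = 1) →
      g ∈ centralizer (V : Set G)

/-- **FIELD-3c**: (R+) of #16754, no field. -/
def RPlus : Prop :=
  ∀ (G : Type u) [Group G] [Finite G] (V F : Subgroup G), HypF V F →
    ∀ g ∈ normalizer (V : Set G), (∀ v ∈ V, c v g ∈ NOne.Flat.EE V F) → (∀ e ∈ NOne.Flat.EE V F, c e g ∈ F) →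
      (∀ f ∈ F, c f g = 1) → g ∈ NOne.Flat.WW V F ⊔ centralizer (V : Set G)

/-- **FIELD-5**: THEOREM SZ. -/
def NoSz : Prop :=
  ∀ (G : Type u) [Group G] [Finite G] (V F : Subgroup G), HypF V F → 4 ≤ (NOne.Flat.EE V F).relIndex V →
    ∀ x ∈ centralizer (F : Set G), BadX V x →
    ∀ (N : Type u) [Group N] (s : Sect (HX V F x) (EX V F x) F N),
      ¬ IsSz ↥(s.A V ⊔ s.A (MulAut.conj x • V)) ((NOne.Flat.EE V F).relIndex V)

/-- **FIELD-6**: `K1` of #19210: for `e ∈ E - F` a subgroup `A₁` of `W`, `|A₁ / N| = |V / E|`, `[V, A₁, A₁] = 1`,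
`e ∈ [v, s] F` for every `s ∈ A₁ - N` and some `v ∈ V - E`. -/
structure K1 {G : Type u} [Group G] (V F : Subgroup G) (e : G) (A₁ : Subgroup G) : Prop where
  NA : NOne.Flat.NN V F ≤ A₁
  AW : A₁ ≤ NOne.Flat.WW V F
  card : (NOne.Flat.NN V F).relIndex A₁ = (NOne.Flat.EE V F).relIndex V
  quad : ∀ v ∈ V, ∀ s ∈ A₁, ∀ t ∈ A₁, c (c v s) t = 1
  ex : ∀ s ∈ A₁, s ∉ NOne.Flat.NN V F → ∃ v ∈ V, v ∉ NOne.Flat.EE V F ∧ (c v s)⁻¹ * e ∈ F
  /-- the image of `A₁` under `[v, ·]` does not depend on `v` -/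
  line : ∀ v ∈ V, ∀ w ∈ V, w ∉ NOne.Flat.EE V F → ∀ s ∈ A₁, ∃ t ∈ A₁, (c v s)⁻¹ * c w t ∈ F

/-- **FIELD-6** -/
def K1All : Prop :=
  ∀ (G : Type u) [Group G] [Finite G] (V F : Subgroup G), HypF V F → ∀ e ∈ NOne.Flat.EE V F, e ∉ F →
    ∃ A₁ : Subgroup G, K1 V F e A₁

end Cfsg.Agent.Omega.NO1.Field

end

section


/-!
# FIELD-3: `N_Λ(E) ∩ C(F)` is transitive on `(V / E)#` (project OMEGA, N1, shortcut (A) of helper868; typed by helper168)

* `Spr.odd` : the product of `1 ≠ t ∈ A₀` and `1 ≠ u ∈ A₁` has odd order;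
* `Spr.trans` : the stabiliser of `B₀` in `⟨A₀, A₁⟩` is transitive on the nontrivial elements of `A₀`;
* `Hyp.trans` : `v, w ∈ V - E` : there is `l ∈ N(V) ∩ N(E) ∩ C(F)` with `v^l ∈ w E`.

No torus, no strongly embedded subgroup.
-/

set_option autoImplicit false
set_option linter.unusedSectionVars false

namespace Cfsg.Agent.Omega.NOne.Flat

open Subgroup Cfsg Cfsg.Agent.Omega.NoFF.Basic Cfsg.Agent.Omega.NOne.Frame
open Cfsg.Agent.Omega.NOne.NearFF (Near c c_def)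
open Cfsg.Agent.ZN (o2)
open Cfsg.Agent.MinSimple.VModule
open scoped Pointwise

universe u

section spr

variable {M : Type*} [Group M] {B : Bool → Subgroup M} {A : Bool → Subgroup (MulAut M)}

namespace Spr

variable (h : Spr B A)
include h

theorem A_le (i : Bool) : A i ≤ A false ⊔ A true := by
  cases i
  · exact le_sup_left
  · exact le_sup_right

/-- `C_M(a^g) = B^g` -/
theorem mem_of_conj {i : Bool} {a g : MulAut M} (ha : a ∈ A i) (ha1 : a ≠ 1) {m : M} :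
    (g * a * g⁻¹) m = m ↔ m ∈ (B i).map (g : M ≃* M).toMonoidHom := by
  have e : (g * a * g⁻¹) m = g (a (g⁻¹ m)) := rfl
  have e2 : g (g⁻¹ m) = m := by
    change (g * g⁻¹) m = m
    rw [mul_inv_cancel]; rfl
  constructor
  · intro h1
    rw [e] at h1
    have h2 : a (g⁻¹ m) = g⁻¹ m := by
      have h3 : g (a (g⁻¹ m)) = g (g⁻¹ m) := h1.trans e2.symm
      exact g.injective h3
    exact ⟨g⁻¹ m, h.free i a ha ha1 _ h2, e2⟩
  · rintro ⟨b, hb, rfl⟩
    change g (a (g⁻¹ (g b))) = g b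
    have e3 : g⁻¹ (g b) = b := by
      change (g⁻¹ * g) b = b
      rw [inv_mul_cancel]; rfl
    rw [e3, h.fix i a ha b hb]

/-- two involutions of different points have a product of odd order -/
theorem odd [Finite M] {t u : MulAut M} (ht : t ∈ A false) (ht1 : t ≠ 1) (hu : u ∈ A true) (hu1 : u ≠ 1) :
    Odd (orderOf (t * u)) := by
  rw [← Nat.not_even_iff_odd]
  intro he
  obtain ⟨z, hz, hz1, htz, huz, g, hg, hor⟩ := TI.exists_invol (h.Asq false t ht) (h.Asq true u hu) he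
  have htu : zpowers (t * u) ≤ A false ⊔ A true :=
    zpowers_le.2 (mul_mem (mem_sup_left ht) (mem_sup_right hu))
  have hgL : g ∈ A false ⊔ A true := htu hg
  -- `t z` is a conjugate of an element of `A i`
  obtain ⟨i, a, ha, ha1, hta⟩ : ∃ i, ∃ a ∈ A i, a ≠ 1 ∧ t * z = g * a * g⁻¹ := by
    rcases hor with h1 | h1
    · exact ⟨false, t, ht, ht1, h1⟩
    · exact ⟨true, u, hu, hu1, h1⟩
  have htt := h.Asq false t ht
  have hzz : z * z = 1 := by
    have h1 : (t * z) * (t * z) = 1 := by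
      rw [hta]
      calc g * a * g⁻¹ * (g * a * g⁻¹) = g * (a * a) * g⁻¹ := by group
        _ = 1 := by rw [h.Asq i a ha]; group
    calc z * z = (t * t) * (z * z) := by rw [htt, one_mul]
      _ = (t * z) * (t * z) := by
        have : t * z * (t * z) = t * (z * t) * z := by group
        rw [this, ← htz]; group
      _ = 1 := h1
  have hcen : ∀ (i : Bool) (x : MulAut M), x ∈ A i → x ≠ 1 → x * z = z * x → ∀ m ∈ B i, z m ∈ B i := by
    intro i x hx hx1 hxz m hm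
    apply h.free i x hx hx1
    have h1 : (x * z) m = (z * x) m := by rw [hxz]
    change x (z m) = z (x m) at h1
    rw [h1, h.fix i x hx m hm]
  -- a fixed point of `z` on `B₀`
  obtain ⟨m, hm, hm1⟩ : ∃ m ∈ B false, m ≠ 1 := by
    have h1 := h.ne false
    by_contra hcon
    push Not at hcon
    exact h1 (eq_bot_iff.2 fun x hx => mem_bot.2 (hcon x hx))
  obtain ⟨n, hn, hn1, hzn⟩ : ∃ n ∈ B false, n ≠ 1 ∧ z n = n := by
    by_cases h1 : m * z m = 1
    · refine ⟨m, hm, hm1, ?_⟩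
      have h2 : z m = m⁻¹ := (inv_eq_of_mul_eq_one_right h1).symm
      rw [h2]
      exact inv_eq_of_mul_eq_one_right (h.sq m)
    · refine ⟨m * z m, mul_mem hm (hcen false t ht ht1 htz m hm), h1, ?_⟩
      have h2 : z (z m) = m := by
        change (z * z) m = m
        rw [hzz]; rfl
      rw [map_mul, h2, h.comm]
  have hn2 : (t * z) n = n := by
    change t (z n) = n
    rw [hzn, h.fix false t ht n hn]
  rw [hta, h.mem_of_conj ha ha1] at hn2
  have hB : (B i).map (g : M ≃* M).toMonoidHom = B false := by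
    rcases h.spread i false g hgL with h1 | h1
    · exact h1
    · exfalso
      apply hn1
      have h2 : n ∈ (B i).map (g : M ≃* M).toMonoidHom ⊓ B false := ⟨hn2, hn⟩
      rw [h1] at h2
      exact mem_bot.1 h2
  have hA := h.stab i false g hgL hB
  have htz' : t * z ∈ A false := by
    rw [← hA, hta]
    exact ⟨a, ha, rfl⟩
  have hzA : z ∈ A false := by
    have h1 := mul_mem (inv_mem ht) htz'
    rwa [inv_mul_cancel_left] at h1
  apply h.ne true
  rw [eq_bot_iff]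
  intro k hk
  have h1 : z k ∈ B true := hcen true u hu hu1 huz k hk
  have h2 : z k * k⁻¹ ∈ B false ⊓ B true := mem_inf.2 ⟨h.into false z hzA k, mul_mem h1 (inv_mem hk)⟩
  rw [h.disj, mem_bot, mul_inv_eq_one] at h2
  have h3 : k ∈ B false ⊓ B true := ⟨h.free false z hzA hz1 k h2, hk⟩
  rwa [h.disj] at h3

end Spr

/-- two involutions with a product of odd order are conjugate -/
theorem exists_conj_of_odd {G : Type*} [Group G] {t u : G} (ht : t * t = 1) (hu : u * u = 1)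
    (ho : Odd (orderOf (t * u))) : ∃ g ∈ zpowers (t * u), g * t * g⁻¹ = u := by
  obtain ⟨k, hk⟩ := ho
  have hti : t⁻¹ = t := inv_eq_of_mul_eq_one_left ht
  have hdi : (t * u)⁻¹ = u * t := by rw [mul_inv_rev, hti, inv_eq_of_mul_eq_one_left hu]
  have htd : t * (t * u) * t = (t * u)⁻¹ := by rw [hdi, ← mul_assoc, ht, one_mul]
  refine ⟨(t * u) ^ k, pow_mem (mem_zpowers _) k, ?_⟩
  have h1 := TI.mul_pow_of_inv ht htd k
  -- `t d^k = d^{-k} t`
  have h2 : (t * u) ^ k * t = t * ((t * u) ^ k)⁻¹ := by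
    calc (t * u) ^ k * t = t * t * ((t * u) ^ k * t) := by rw [ht, one_mul]
      _ = t * (t * (t * u) ^ k) * t := by group
      _ = t * (((t * u) ^ k)⁻¹ * t) * t := by rw [h1]
      _ = t * ((t * u) ^ k)⁻¹ * (t * t) := by group
      _ = t * ((t * u) ^ k)⁻¹ := by rw [ht, mul_one]
  have h3 : (t * u) ^ (2 * k + 1) = 1 := by rw [← hk]; exact pow_orderOf_eq_one _
  have h4 : ((t * u) ^ k)⁻¹ * ((t * u) ^ k)⁻¹ = t * u := by
    rw [← mul_inv_rev, ← pow_add, ← two_mul]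
    rw [pow_succ] at h3
    exact (eq_inv_of_mul_eq_one_right h3).symm
  calc (t * u) ^ k * t * ((t * u) ^ k)⁻¹ = t * (((t * u) ^ k)⁻¹ * ((t * u) ^ k)⁻¹) := by
        rw [h2, mul_assoc]
    _ = t * (t * u) := by rw [h4]
    _ = u := by rw [← mul_assoc, ht, one_mul]

namespace Spr

variable (h : Spr B A)
include h

/-- **the stabiliser of `B₀` is transitive on `A₀#`** -/
theorem trans [Finite M] {t t' : MulAut M} (ht : t ∈ A false) (ht1 : t ≠ 1) (ht' : t' ∈ A false) (ht1' : t' ≠ 1) :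
    ∃ y ∈ A false ⊔ A true, y * t * y⁻¹ = t' ∧ (B false).map (y : M ≃* M).toMonoidHom = B false := by
  obtain ⟨u, hu, hu1⟩ : ∃ u ∈ A true, u ≠ 1 := by
    have h1 := h.Ane true
    by_contra hcon
    push Not at hcon
    exact h1 (eq_bot_iff.2 fun x hx => mem_bot.2 (hcon x hx))
  obtain ⟨g, hg, hgt⟩ := exists_conj_of_odd (h.Asq false t ht) (h.Asq true u hu) (h.odd ht ht1 hu hu1)
  obtain ⟨g', hg', hgt'⟩ := exists_conj_of_odd (h.Asq false t' ht') (h.Asq true u hu) (h.odd ht' ht1' hu hu1)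
  have hz : ∀ x ∈ A false, zpowers (x * u) ≤ A false ⊔ A true := fun x hx =>
    zpowers_le.2 (mul_mem (mem_sup_left hx) (mem_sup_right hu))
  have hy : (g'⁻¹ * g) * t * (g'⁻¹ * g)⁻¹ = t' := by
    calc g'⁻¹ * g * t * (g'⁻¹ * g)⁻¹ = g'⁻¹ * (g * t * g⁻¹) * g' := by group
      _ = g'⁻¹ * (g' * t' * g'⁻¹) * g' := by rw [hgt, hgt']
      _ = t' := by group
  refine ⟨g'⁻¹ * g, mul_mem (inv_mem (hz t' ht' hg')) (hz t ht hg), hy, ?_⟩
  ext m
  rw [← h.mem_of_conj ht ht1, hy]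
  exact ⟨fun h1 => h.free false t' ht' ht1' m h1, fun h1 => h.fix false t' ht' m h1⟩

end Spr

end spr

namespace Hyp

variable {G : Type u} [Group G] {V F : Subgroup G} (h : Hyp V F)
include h

/-- **`N(V) ∩ N(E) ∩ C(F)` is transitive on `(V / E)#`.** -/
theorem trans [Finite G]
    (hF0 : ∀ y ∈ centralizer (F : Set G), MulAut.conj y • EE V F = EE V F →
      ∃ z ∈ centralizer (EE V F : Set G), MulAut.conj y • V = MulAut.conj z • V)
    {v w : G} (hv : v ∈ V) (hvE : v ∉ EE V F) (hw : w ∈ V) (hwE : w ∉ EE V F) :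
    ∃ l ∈ normalizer (V : Set G), l ∈ normalizer (EE V F : Set G) ∧ l ∈ centralizer (F : Set G) ∧
      w⁻¹ * (l * v * l⁻¹) ∈ EE V F := by
  obtain ⟨x, hx, hb, -, -⟩ := h.exists_near hv hvE
  obtain ⟨M, _, ⟨s⟩⟩ := exists_sectEX (V := V) hx
  have spr := h.exists_spr hx hb hF0 s
  have hgood := h.good_gi hx hb
  have : Finite M := Finite.of_surjective s.π s.surj
  have hVH : V ≤ HX V F x := by
    have := h.conjV_le_HX (h.good_one hx hb)
    rwa [map_one, one_smul] at this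
  have e0V : MulAut.conj (gi x false) • V = V := by
    change MulAut.conj (1 : G) • V = V
    rw [map_one, one_smul]
  have e0 : MulAut.conj (gi x false) • EE V F = EE V F := by
    change MulAut.conj (1 : G) • EE V F = EE V F
    rw [map_one, one_smul]
  have hker : ∀ (k : G) (hk : k ∈ V), s.ρ ⟨k, hVH hk⟩ = 1 ↔ k ∈ EE V F := by
    intro k hk
    rw [s.ρ_eq_one_iff]
    have h1 := h.ker_conj hx hb (h.good_one hx hb) (k := k) (by rw [map_one, one_smul]; exact hk)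
    rw [map_one, one_smul] at h1
    exact h1
  have hmA : ∀ (k : G) (hk : k ∈ V), s.ρ ⟨k, hVH hk⟩ ∈ s.A (MulAut.conj (gi x false) • V) := by
    intro k hk
    exact ⟨⟨k, hVH hk⟩, by rw [e0V]; exact hk, rfl⟩
  obtain ⟨y, hy, hyt, hyB⟩ := spr.trans (hmA v hv) (fun h1 => hvE ((hker v hv).1 h1)) (hmA w hw)
    (fun h1 => hwE ((hker w hw).1 h1))
  rw [s.A_sup (h.conjV_le_HX (hgood false)) (h.conjV_le_HX (hgood true))] at hy
  obtain ⟨l, -, rfl⟩ := hy
  rw [e0, s.B_map] at hyB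
  have hlF : (l : G) ∈ centralizer (F : Set G) := l.2.2
  have hlg : Good V F x ((l : G) * 1) := (h.good_one hx hb).mul l.2.1 l.2.2
  rw [mul_one] at hlg
  have hlE : MulAut.conj (l : G) • EE V F = EE V F :=
    s.B_inj (h.F_le_conjE hlF) hlg.le h.F_le_E le_sup_left hyB
  obtain ⟨z, hz, hlz⟩ := hF0 _ hlF hlE
  have hzF : z ∈ centralizer (F : Set G) := centralizer_le h.F_le_E hz
  have hzE : MulAut.conj z • EE V F = EE V F := conj_eq_of_cent hz
  have hmV : MulAut.conj (z⁻¹ * l) • V = V := by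
    rw [← conj_conj, hlz, conj_conj, inv_mul_cancel, map_one, one_smul]
  have hmE : MulAut.conj (z⁻¹ * l) • EE V F = EE V F := by
    rw [← conj_conj, hlE]
    have := conj_eq_of_cent (inv_mem hz)
    exact this
  refine ⟨z⁻¹ * l, TI.norm_of_conj_eq hmV, TI.norm_of_conj_eq hmE, mul_mem (inv_mem hzF) hlF, ?_⟩
  have hv' : z⁻¹ * l * v * (z⁻¹ * l)⁻¹ ∈ V := by
    have h1 : z⁻¹ * l * v * (z⁻¹ * l)⁻¹ ∈ MulAut.conj (z⁻¹ * (l : G)) • V := Frame.conj_mem hv
    rwa [hmV] at h1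
  set v' := z⁻¹ * l * v * (z⁻¹ * l)⁻¹ with hv'def
  -- `v' ≡ l v l⁻¹ ≡ w`
  have hlv : (l : G) * v * (l : G)⁻¹ = z * v' * z⁻¹ := by rw [hv'def]; group
  have hzH : z * v' * z⁻¹ ∈ HX V F x := by
    rw [← hlv]
    exact mul_mem (mul_mem l.2 (hVH hv)) (inv_mem l.2)
  have h1 : s.ρ ⟨v', hVH hv'⟩ = s.ρ ⟨z * v' * z⁻¹, hzH⟩ := by
    rw [s.ρ_eq_iff]
    intro n hn
    have hnW : n ∈ WW V F := EEx_le_W hx hn
    have h2 := h.comm_conj_mem hz hv' hnW
    have h3 := norm_mem' (X_norm_F (W_le_X hnW)) h2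
    have e : n⁻¹ * ((c v' n)⁻¹ * c (z * v' * z⁻¹) n) * n =
        (v' * n * v'⁻¹)⁻¹ * (z * v' * z⁻¹ * n * (z * v' * z⁻¹)⁻¹) := by
      rw [c, c]; group
    rwa [e] at h3
  have h2 : s.ρ ⟨z * v' * z⁻¹, hzH⟩ = s.ρ ⟨w, hVH hw⟩ := by
    rw [← hyt, ← map_inv, ← map_mul, ← map_mul]
    congr 1
    apply Subtype.ext
    exact hlv.symm
  have h3 : s.ρ ⟨w⁻¹ * v', hVH (mul_mem (inv_mem hw) hv')⟩ = 1 := by
    have e : (⟨w⁻¹ * v', hVH (mul_mem (inv_mem hw) hv')⟩ : HX V F x) = (⟨w, hVH hw⟩)⁻¹ * ⟨v', hVH hv'⟩ := rfl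
    rw [e, map_mul, map_inv, h1, h2, inv_mul_cancel]
  exact (hker _ (mul_mem (inv_mem hw) hv')).1 h3

end Hyp

end Cfsg.Agent.Omega.NOne.Flat

end
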