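import Cfsg.Agent.Mrg.Omega.NO1.Field.RPlus
import Cfsg.Agent.Mrg.Omega.NOne.Flat.QC
import Cfsg.Agent.Mrg.Omega.NO1.Field.FZero

section


/-!
# FIELD-5, end: no `SzR` over a FLAT frame (helper659's kill with `NN = 1` and (MU) inserted)
-/

set_option autoImplicit false

namespace Cfsg.Agent.Omega.NO1.Field

open Subgroup Cfsg

universe u

variable {G : Type u} [Group G] [Finite G] {V F : Subgroup G}

theorem HypF.nnOne (h : HypF V F) : NOne.Flat.NNOne V F := fun n hn h1 h2 =>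
  h.nn hn h1 fun e he => by
    rw [NOne.NearFF.c_def, h2 e he]
    group

/-- **no `SzR` over a FLAT frame** -/
theorem HypF.no_szR (h : HypF V F) {K R D : Subgroup G} (z : NOne.Flat.SzR V F K R D) : False :=
  z.false_of h.toHyp h.nnOne h.noffM

end Cfsg.Agent.Omega.NO1.Field

end

section


/-!
# FIELD-5, the plug, part 1: from `T`, `K` on `E E^x / F` to subgroups of `N_G(V)` (text #19896 (2))

* `SzOutS` : `SzOut` with `K = C_{B₀}(T)` and `K = [B₀, t]` for a `t ∈ T`;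
* `HypF.lift` : `l ∈ HX` stabilises `E` and commutes on `E E^x / F` with `V`: there is `m ∈ N(V) ∩ C(F)` with
  `m = l` on `E`, `[V, m] ≤ E`;
* `HypF.exists_szR` : the data `SzR` of helper659's KILL;
* **`noSz : SzOutS → NoSz`**.
-/

set_option autoImplicit false
set_option linter.unusedSectionVars false

namespace Cfsg.Agent.Omega.NO1.Field

open Subgroup Cfsg Cfsg.Agent.ZN Cfsg.Agent.Omega.NoFF.Basic Cfsg.Agent.Omega.NOne.Frame
open Cfsg.Agent.Omega.FFThm (OffM)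
open Cfsg.Agent.Omega.NOne.NearFF (c c_def)
open Cfsg.Agent.Omega.NOne.Flat (Hyp BadX Sect EX HX Spr gi NN WW)
open Cfsg.Agent.MinSimple.VModule
open scoped Pointwise

universe u

/-- `SzOut` with `K = C_{B₀}(T) = [B₀, t]`. -/
def SzOutS : Prop :=
  ∀ (M : Type u) [Group M] [Finite M] (B : Bool → Subgroup M) (A : Bool → Subgroup (MulAut M)),
    Spr B A → 4 ≤ Nat.card (A false) → IsSz ↥(A false ⊔ A true) (Nat.card (A false)) →
      ∃ (T : Subgroup (MulAut M)) (K : Subgroup M), A false ≤ T ∧ T ≤ A false ⊔ A true ∧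
        Nat.card T = Nat.card (A false) ^ 2 ∧ (∀ t ∈ T, ∀ a ∈ A false, t * a = a * t) ∧
        (∀ t ∈ T, ∀ m ∈ B false, t m ∈ B false) ∧ K ≤ B false ∧ Nat.card K ^ 2 = Nat.card (B false) ∧
        (∀ t ∈ T, ∀ m ∈ B false, t m * m⁻¹ ∈ K) ∧ (∀ t ∈ T, ∀ m ∈ K, t m = m) ∧
        (∀ t ∈ T, (∀ m ∈ B false, t m = m) → t ∈ A false) ∧
        (∀ m ∈ B false, (∀ t ∈ T, t m = m) → m ∈ K) ∧
        ∃ t ∈ T, ∀ m ∈ K, ∃ m' ∈ B false, m = t m' * m'⁻¹

variable {G : Type u} [Group G]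

theorem norm_of_conj {g : G} {A : Subgroup G} (hg : MulAut.conj g • A = A) : g ∈ normalizer (A : Set G) := by
  rw [mem_normalizer_iff]
  intro y
  constructor
  · intro hy
    have := NOne.Frame.conj_mem (g := g) hy
    rwa [hg] at this
  · intro hy
    rw [← hg, mem_conj] at hy
    have e : g⁻¹ * (g * y * g⁻¹) * g = y := by group
    rwa [e] at hy

section

variable [Finite G] {V F : Subgroup G} (h : HypF V F)
include h

theorem HypF.lift {x : G} (hx : x ∈ centralizer (F : Set G)) (hb : BadX V x) {l : G}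
    (hlN : l ∈ normalizer (EX V F x : Set G)) (hlX : l ∈ centralizer (F : Set G))
    (hE : MulAut.conj l • NOne.Flat.EE V F = NOne.Flat.EE V F)
    (hc : ∀ v ∈ V, ∀ n ∈ EX V F x, (c v n)⁻¹ * c (l * v * l⁻¹) n ∈ F) :
    ∃ m ∈ normalizer (V : Set G) ⊓ centralizer (F : Set G),
      (∀ e ∈ NOne.Flat.EE V F, m * e * m⁻¹ = l * e * l⁻¹) ∧ ∀ v ∈ V, c v m ∈ NOne.Flat.EE V F := by
  obtain ⟨z, hz, hVz⟩ := h.f0' l hlX hE
  have hzE : ∀ e ∈ NOne.Flat.EE V F, z * e = e * z := fun e he => (mem_centralizer_iff.1 hz e he).symm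
  have hlE : ∀ e ∈ NOne.Flat.EE V F, l * e * l⁻¹ ∈ NOne.Flat.EE V F := by
    intro e he
    rw [← hE]
    exact NOne.Frame.conj_mem he
  set m : G := z⁻¹ * l with hm
  have hmV : m ∈ normalizer (V : Set G) := by
    have e1 : MulAut.conj m • V = V := by
      rw [hm, map_mul, mul_smul, hVz, conj_conj, inv_mul_cancel, map_one, one_smul]
    exact norm_of_conj e1
  have hmX : m ∈ centralizer (F : Set G) :=
    mul_mem (inv_mem (centralizer_le h.F_le_E hz)) hlX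
  have hmE : ∀ e ∈ NOne.Flat.EE V F, m * e * m⁻¹ = l * e * l⁻¹ := by
    intro e he
    have h1 := hzE _ (hlE e he)
    calc m * e * m⁻¹ = z⁻¹ * (l * e * l⁻¹ * z) := by rw [hm]; group
      _ = z⁻¹ * (z * (l * e * l⁻¹)) := by rw [h1]
      _ = l * e * l⁻¹ := by group
  refine ⟨m, mem_inf.2 ⟨hmV, hmX⟩, hmE, fun v hv => ?_⟩
  have hmv : m * v * m⁻¹ ∈ V := norm_mem hmV hv
  have hu : c v m = v * (m * v * m⁻¹)⁻¹ := by rw [c_def]; group
  by_contra hnE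
  -- the elements of `EX` centralise `E`
  have key : ∀ s ∈ EX V F x, s ∈ centralizer (NOne.Flat.EE V F : Set G) := by
    intro s hs
    have hsW : s ∈ WW V F := Hyp.EEx_le_W hx hs
    have hs' : m * s * m⁻¹ ∈ WW V F := Hyp.conj_mem_W hmX hsW
    have hn : l * s * l⁻¹ ∈ EX V F x := norm_mem hlN hs
    have hnW : l * s * l⁻¹ ∈ WW V F := Hyp.EEx_le_W hx hn
    have h1 : c (m * v * m⁻¹) (m * s * m⁻¹) = c (l * v * l⁻¹) (l * s * l⁻¹) := by
      have h2 := hmE _ (h.c_memE hv hsW)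
      have e1 : c (m * v * m⁻¹) (m * s * m⁻¹) = m * c v s * m⁻¹ := by rw [c, c]; group
      have e2 : c (l * v * l⁻¹) (l * s * l⁻¹) = l * c v s * l⁻¹ := by rw [c, c]; group
      rw [e1, e2, h2]
    have h2 := hc v hv _ hn
    have h3 := h.comm_conj_mem (g := z⁻¹) (inv_mem hz) hv hs'
    have h4 : c (z⁻¹ * v * z⁻¹⁻¹) (m * s * m⁻¹) = c v (l * s * l⁻¹) := by
      have e1 : c (z⁻¹ * v * z⁻¹⁻¹) (m * s * m⁻¹) = z⁻¹ * c v (l * s * l⁻¹) * z := by
        rw [c, c, hm]; group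
      rw [e1, mul_assoc, ← hzE _ (h.c_memE hv hnW), inv_mul_cancel_left]
    rw [h4] at h3
    rw [← h1] at h2
    have h5 := mul_mem h3 h2
    have e5 : (c v (m * s * m⁻¹))⁻¹ * c v (l * s * l⁻¹) * ((c v (l * s * l⁻¹))⁻¹ *
        c (m * v * m⁻¹) (m * s * m⁻¹)) = (c v (m * s * m⁻¹))⁻¹ * c (m * v * m⁻¹) (m * s * m⁻¹) := by
      group
    rw [e5] at h5
    have h6 : c (c v m) (m * s * m⁻¹) ∈ F := by
      rw [hu, h.c_mul_left hv (inv_mem hmv) hs', h.c_inv_left hmv hs']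
      have h7 := inv_mem h5
      rw [mul_inv_rev, inv_inv, h.V_comm (inv_mem (h.c_memV hmv hs')) (h.c_memV hv hs')] at h7
      exact h7
    have hcV : c v m ∈ V := by
      rw [hu]
      exact mul_mem hv (inv_mem hmv)
    have h7 : m * s * m⁻¹ ∈ centralizer (NOne.Flat.EE V F : Set G) := ((h.c_mem_F_iff hcV hnE hs').1 h6).2
    rw [mem_centralizer_iff] at h7 ⊢
    intro e he
    have h8 : m * e * m⁻¹ ∈ NOne.Flat.EE V F := by rw [hmE e he]; exact hlE e he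
    have h9 := h7 _ h8
    have e1 : m * e * m⁻¹ * (m * s * m⁻¹) = m * (e * s) * m⁻¹ := by group
    have e2 : m * s * m⁻¹ * (m * e * m⁻¹) = m * (s * e) * m⁻¹ := by group
    rw [e1, e2] at h9
    exact mul_left_cancel (mul_right_cancel h9)
  -- contradiction
  have h1 : MulAut.conj x • NOne.Flat.EE V F ≤ F := by
    refine le_trans ?_ (h.conjE_inf_NN hx hb).le
    exact le_inf le_rfl fun f hf => mem_inf.2 ⟨Hyp.conjE_le_W hx hf, key f (mem_sup_right hf)⟩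
  exact h.conjE_ne x hx (le_antisymm h1 (h.F_le_conjE hx))


/-! ### the groups `EK`, `R`, `D` -/

omit [Finite G] h in
/-- `r` acts on `E / F` as `t`. -/
def Act {x : G} {N : Type u} [Group N] (s : Sect (HX V F x) (EX V F x) F N) (r : G) (t : MulAut N) : Prop :=
  ∀ (e : G) (he : e ∈ EX V F x) (he' : r * e * r⁻¹ ∈ EX V F x), e ∈ NOne.Flat.EE V F →
    s.π ⟨r * e * r⁻¹, he'⟩ = t (s.π ⟨e, he⟩)

omit [Finite G] h in
theorem Act.mul {x : G} {N : Type u} [Group N] {s : Sect (HX V F x) (EX V F x) F N} {r r' : G}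
    {t t' : MulAut N} (h1 : Act s r t) (h2 : Act s r' t')
    (hr : r ∈ normalizer (NOne.Flat.EE V F : Set G)) (hr' : r' ∈ normalizer (NOne.Flat.EE V F : Set G)) :
    Act s (r * r') (t * t') := by
  intro e he he' heE
  have k1 : r' * e * r'⁻¹ ∈ NOne.Flat.EE V F := norm_mem hr' heE
  have k2 : r' * e * r'⁻¹ ∈ EX V F x := mem_sup_left k1
  have k3 : r * (r' * e * r'⁻¹) * r⁻¹ ∈ EX V F x := mem_sup_left (norm_mem hr k1)
  have k4 := h1 _ k2 k3 k1
  rw [h2 e he k2 heE] at k4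
  have e1 : (⟨r * r' * e * (r * r')⁻¹, he'⟩ : ↥(EX V F x)) = ⟨r * (r' * e * r'⁻¹) * r⁻¹, k3⟩ :=
    Subtype.ext (by simp only; group)
  rw [e1, k4]
  rfl

omit [Finite G] h in
theorem Act.inv {x : G} {N : Type u} [Group N] {s : Sect (HX V F x) (EX V F x) F N} {r : G}
    {t : MulAut N} (h1 : Act s r t) (hr : r ∈ normalizer (NOne.Flat.EE V F : Set G)) : Act s r⁻¹ t⁻¹ := by
  intro e he he' heE
  have k1 : r⁻¹ * e * r⁻¹⁻¹ ∈ NOne.Flat.EE V F := norm_mem (inv_mem hr) heE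
  have k3 : r * (r⁻¹ * e * r⁻¹⁻¹) * r⁻¹ ∈ EX V F x := by
    have e1 : r * (r⁻¹ * e * r⁻¹⁻¹) * r⁻¹ = e := by group
    rwa [e1]
  have k4 := h1 _ he' k3 k1
  have e1 : (⟨r * (r⁻¹ * e * r⁻¹⁻¹) * r⁻¹, k3⟩ : ↥(EX V F x)) = ⟨e, he⟩ :=
    Subtype.ext (by simp only; group)
  rw [e1] at k4
  rw [k4]
  change _ = (t⁻¹ * t) _
  rw [inv_mul_cancel]
  rfl

omit [Finite G] h in
theorem Act.of_comm {x : G} {N : Type u} [Group N] (s : Sect (HX V F x) (EX V F x) F N) {r : G}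
    (hr : ∀ e ∈ NOne.Flat.EE V F, c e r ∈ F) (hF : ∀ e ∈ NOne.Flat.EE V F, ∀ f ∈ F, e * f = f * e) : Act s r 1 := by
  intro e he he' heE
  change _ = s.π ⟨e, he⟩
  rw [s.π_eq_iff]
  have h1 := hr e heE
  have h2 : c e r * e = e * c e r := (hF e heE _ h1).symm
  have e1 : ((⟨r * e * r⁻¹, he'⟩ : ↥(EX V F x)) : G)⁻¹ * ((⟨e, he⟩ : ↥(EX V F x)) : G) = c e r := by
    change (r * e * r⁻¹)⁻¹ * e = c e r
    have e2 : (r * e * r⁻¹)⁻¹ * e = e⁻¹ * (c e r * e) := by rw [c]; group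
    rw [e2, h2, inv_mul_cancel_left]
  rw [e1]
  exact h1

omit [Finite G] h in
theorem Act.comm_of {x : G} {N : Type u} [Group N] {s : Sect (HX V F x) (EX V F x) F N} {r : G} {t : MulAut N}
    (h1 : Act s r t) (hr : r ∈ normalizer (NOne.Flat.EE V F : Set G)) {e : G} (heE : e ∈ NOne.Flat.EE V F)
    (ht : t (s.π ⟨e, mem_sup_left heE⟩) = s.π ⟨e, mem_sup_left heE⟩)
    (hF : ∀ e ∈ NOne.Flat.EE V F, ∀ f ∈ F, e * f = f * e) : c e r ∈ F := by
  have h2 := h1 e (mem_sup_left heE) (mem_sup_left (norm_mem hr heE)) heE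
  rw [ht, s.π_eq_iff] at h2
  have h3 : (r * e * r⁻¹)⁻¹ * e ∈ F := h2
  have h4 := hF e heE _ h3
  have e1 : c e r = e * ((r * e * r⁻¹)⁻¹ * e) * e⁻¹ := by rw [c]; group
  rw [e1, h4, mul_inv_cancel_right]
  exact h3

omit [Finite G] h in
/-- The group `R`. -/
def RR {x : G} {N : Type u} [Group N] (s : Sect (HX V F x) (EX V F x) F N) (T : Subgroup (MulAut N)) :
    Subgroup G where
  carrier := {r | r ∈ NOne.Frame.stab (normalizer (V : Set G) ⊓ centralizer (F : Set G) ⊓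
      normalizer (NOne.Flat.EE V F : Set G)) V (NOne.Flat.EE V F) inf_le_right ∧ ∃ t ∈ T, Act s r t}
  one_mem' := ⟨one_mem _, 1, one_mem _, fun e he he' _ => by
    have e1 : (⟨1 * e * 1⁻¹, he'⟩ : ↥(EX V F x)) = ⟨e, he⟩ := Subtype.ext (by simp)
    rw [e1]; rfl⟩
  mul_mem' := by
    rintro a b ⟨ha, t, ht, ha'⟩ ⟨hb, u, hu, hb'⟩
    exact ⟨mul_mem ha hb, t * u, mul_mem ht hu, ha'.mul hb' ha.1.2 hb.1.2⟩
  inv_mem' := by
    rintro a ⟨ha, t, ht, ha'⟩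
    exact ⟨inv_mem ha, t⁻¹, inv_mem ht, ha'.inv ha.1.2⟩

omit [Finite G] h in
theorem mem_RR {x : G} {N : Type u} [Group N] {s : Sect (HX V F x) (EX V F x) F N} {T : Subgroup (MulAut N)} {r : G} :
    r ∈ RR s T ↔ (r ∈ normalizer (V : Set G) ∧ r ∈ centralizer (F : Set G) ∧
      r ∈ normalizer (NOne.Flat.EE V F : Set G) ∧ ∀ v ∈ V, c v r ∈ NOne.Flat.EE V F) ∧ ∃ t ∈ T, Act s r t := by
  constructor
  · rintro ⟨⟨⟨⟨h1, h2⟩, h3⟩, h4⟩, h5⟩
    refine ⟨⟨h1, h2, h3, fun v hv => ?_⟩, h5⟩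
    have h6 := inv_mem (h4 v hv)
    have e : (r * v * r⁻¹ * v⁻¹)⁻¹ = c v r := by rw [c]; group
    rwa [e] at h6
  · rintro ⟨⟨h1, h2, h3, h4⟩, h5⟩
    refine ⟨⟨⟨⟨h1, h2⟩, h3⟩, fun v hv => ?_⟩, h5⟩
    have h6 := inv_mem (h4 v hv)
    have e : (c v r)⁻¹ = r * v * r⁻¹ * v⁻¹ := by rw [c]; group
    rwa [e] at h6


theorem HypF.F_comm_E {e f : G} (he : e ∈ NOne.Flat.EE V F) (hf : f ∈ F) : e * f = f * e :=
  h.V_comm he.1 (h.F_le_V hf)

omit [Finite G] in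
/-- `W ≤ N(E)` -/
theorem HypF.W_norm_E [Finite G] : WW V F ≤ normalizer (NOne.Flat.EE V F : Set G) := by
  refine le_normalizer_of_comm fun w hw e he => ?_
  have h1 := inv_mem (h.F_le_E (h.comm_EW he hw))
  have e1 : (c e w)⁻¹ = w * e * w⁻¹ * e⁻¹ := by rw [c]; group
  rwa [e1] at h1

/-- **The data of KILL.** -/
theorem HypF.exists_szR {x : G} (hx : x ∈ centralizer (F : Set G)) (hb : BadX V x)
    {N : Type u} [Group N] [Finite N] (s : Sect (HX V F x) (EX V F x) F N)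
    {T : Subgroup (MulAut N)} {K : Subgroup N} (hAT : s.A V ≤ T)
    (hTL : T ≤ s.A V ⊔ s.A (MulAut.conj x • V)) (hcard : Nat.card T = Nat.card (s.A V) ^ 2)
    (hcomm : ∀ t ∈ T, ∀ a ∈ s.A V, t * a = a * t)
    (hst : ∀ t ∈ T, ∀ m ∈ s.B (NOne.Flat.EE V F), t m ∈ s.B (NOne.Flat.EE V F))
    (hK : K ≤ s.B (NOne.Flat.EE V F)) (hK2 : Nat.card K ^ 2 = Nat.card (s.B (NOne.Flat.EE V F)))
    (hTK : ∀ t ∈ T, ∀ m ∈ K, t m = m)
    (hk : ∀ t ∈ T, (∀ m ∈ s.B (NOne.Flat.EE V F), t m = m) → t ∈ s.A V)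
    (hmem : ∀ m ∈ s.B (NOne.Flat.EE V F), (∀ t ∈ T, t m = m) → m ∈ K)
    (hgen : ∃ t ∈ T, ∀ m ∈ K, ∃ m' ∈ s.B (NOne.Flat.EE V F), m = t m' * m'⁻¹)
    (hAcard : Nat.card (s.A V) = (NOne.Flat.EE V F).relIndex V) :
    ∃ EK R D : Subgroup G, NOne.Flat.SzR V F EK R D := by
  have hFc : ∀ e ∈ NOne.Flat.EE V F, ∀ f ∈ F, e * f = f * e := fun e he f hf => h.F_comm_E he hf
  have hEEX : NOne.Flat.EE V F ≤ EX V F x := le_sup_left
  have hFEX : F ≤ EX V F x := h.F_le_E.trans hEEX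
  have hVH : V ≤ HX V F x := le_inf (le_sup_left.trans (h.sup_norm_EEx hx)) h.V_le_X
  have hVxH : MulAut.conj x • V ≤ HX V F x :=
    le_inf (le_sup_right.trans (h.sup_norm_EEx hx)) (h.conjV_le_X hx)
  -- lifts
  have hlift : ∀ t ∈ T, ∃ r ∈ RR s T, Act s r t := by
    intro t ht
    have h1 := hTL ht
    rw [s.A_sup hVH hVxH] at h1
    obtain ⟨l, -, rfl⟩ := h1
    have hE : MulAut.conj (l : G) • NOne.Flat.EE V F = NOne.Flat.EE V F := by
      refine Subgroup.eq_of_le_of_card_ge (fun y hy => ?_) (NOne.Choice.card_conj _ _).ge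
      obtain ⟨e, he, rfl⟩ := NOne.Frame.mem_conj'.1 hy
      have h2 := hst _ ht (s.π ⟨e, hEEX he⟩) ((s.mem_B h.F_le_E).2 he)
      rw [s.ρπ, s.mem_B h.F_le_E] at h2
      exact h2
    obtain ⟨m, hm, hmE, hmV⟩ := h.lift hx hb l.2.1 l.2.2 hE (by
      intro v hv n hn
      have h2 := hcomm _ ht (s.ρ ⟨v, hVH hv⟩) ⟨⟨v, hVH hv⟩, hv, rfl⟩
      have h3 : s.ρ ⟨v, hVH hv⟩ = s.ρ (l * ⟨v, hVH hv⟩ * l⁻¹) := by
        rw [map_mul, map_mul, map_inv, h2, mul_inv_cancel_right]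
      rw [s.ρ_eq_iff] at h3
      have h4 := h3 n hn
      have hnX : n ∈ centralizer (F : Set G) := Hyp.W_le_X (Hyp.EEx_le_W hx hn)
      have h5 := norm_mem (Hyp.X_norm_F hnX) h4
      have e1 : n * (((⟨v, hVH hv⟩ : ↥(HX V F x)) : G) * n * ((⟨v, hVH hv⟩ : ↥(HX V F x)) : G)⁻¹)⁻¹ *
          (((l * ⟨v, hVH hv⟩ * l⁻¹ : ↥(HX V F x)) : G) * n *
            ((l * ⟨v, hVH hv⟩ * l⁻¹ : ↥(HX V F x)) : G)⁻¹) * n⁻¹ =
          (c v n)⁻¹ * c ((l : G) * v * (l : G)⁻¹) n := by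
        change n * (v * n * v⁻¹)⁻¹ * (((l : G) * v * (l : G)⁻¹) * n * ((l : G) * v * (l : G)⁻¹)⁻¹) * n⁻¹ = _
        rw [c, c]; group
      rw [← mul_assoc] at h5
      rwa [e1] at h5)
    have hmN : m ∈ normalizer (NOne.Flat.EE V F : Set G) := by
      apply norm_of_conj
      refine Subgroup.eq_of_le_of_card_ge (fun y hy => ?_) (NOne.Choice.card_conj _ _).ge
      obtain ⟨e, he, rfl⟩ := NOne.Frame.mem_conj'.1 hy
      rw [hmE e he]
      have h2 : (l : G) * e * (l : G)⁻¹ ∈ MulAut.conj (l : G) • NOne.Flat.EE V F := NOne.Frame.conj_mem he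
      rwa [hE] at h2
    have hact : Act s m (s.ρ l) := by
      intro e he he' heE
      rw [s.ρπ]
      congr 1
      exact Subtype.ext (hmE e heE)
    exact ⟨m, mem_RR.2 ⟨⟨hm.1, hm.2, hmN, hmV⟩, _, ht, hact⟩, hact⟩
  -- the groups
  set EK : Subgroup G := (K.comap s.π).map (EX V F x).subtype with hEK
  have memEK : ∀ {e : G} (he : e ∈ EX V F x), e ∈ EK ↔ s.π ⟨e, he⟩ ∈ K := by
    intro e he
    constructor
    · rintro ⟨⟨e', he'⟩, h1, rfl⟩
      exact h1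
    · intro h1
      exact ⟨⟨e, he⟩, h1, rfl⟩
  have hEKX : EK ≤ EX V F x := by
    rintro _ ⟨e, -, rfl⟩
    exact e.2
  have hFK : F ≤ EK := by
    intro f hf
    rw [memEK (hFEX hf), (s.ker ⟨f, hFEX hf⟩).2 hf]
    exact one_mem _
  have hKE : EK ≤ NOne.Flat.EE V F := by
    intro e he
    have h1 := hK ((memEK (hEKX he)).1 he)
    exact (s.mem_B h.F_le_E).1 h1
  have hBK : s.B EK = K := by
    ext n
    obtain ⟨e, rfl⟩ := s.surj n
    rw [s.mem_B hFK]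
    exact memEK e.2
  have hRE : ∀ {r : G}, r ∈ RR s T → r ∈ normalizer (NOne.Flat.EE V F : Set G) := fun hr => (mem_RR.1 hr).1.2.2.1
  have hXE : RR s T ≤ normalizer (F : Set G) :=
    fun r hr => centralizer_le_normalizer _ (mem_RR.1 hr).1.2.1
  refine ⟨EK, RR s T, NOne.Frame.stab (RR s T) (NOne.Flat.EE V F) F hXE, ?_⟩
  have memD : ∀ d, d ∈ NOne.Frame.stab (RR s T) (NOne.Flat.EE V F) F hXE ↔
      d ∈ RR s T ∧ ∀ e ∈ NOne.Flat.EE V F, c e d ∈ F := by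
    intro d
    constructor
    · rintro ⟨h1, h2⟩
      refine ⟨h1, fun e he => ?_⟩
      have h6 := inv_mem (h2 e he)
      have e1 : (d * e * d⁻¹ * e⁻¹)⁻¹ = c e d := by rw [c]; group
      rwa [e1] at h6
    · rintro ⟨h1, h2⟩
      refine ⟨h1, fun e he => ?_⟩
      have h6 := inv_mem (h2 e he)
      have e1 : (c e d)⁻¹ = d * e * d⁻¹ * e⁻¹ := by rw [c]; group
      rwa [e1] at h6
  refine
  { FK := hFK
    KE := hKE
    idx := by
      rw [← s.card_B hEEX, ← s.card_B hEKX, hBK, hK2]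
    WR := fun w hw => mem_RR.2 ⟨⟨h.W_norm_V hw, Hyp.W_le_X hw, h.W_norm_E hw, fun v hv => h.comm_VW hv hw⟩, 1,
      one_mem _, Act.of_comm s (fun e he => h.comm_EW he hw) hFc⟩
    norm := fun r hr => (mem_RR.1 hr).1.1
    cent := fun r hr => (mem_RR.1 hr).1.2.1
    commV := fun r hr v hv => (mem_RR.1 hr).1.2.2.2 v hv
    commK := by
      intro r hr k hk
      obtain ⟨-, t, ht, hact⟩ := mem_RR.1 hr
      exact hact.comm_of (hRE hr) (hKE hk) (hTK t ht _ ((memEK (hEEX (hKE hk))).1 hk)) hFc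
    fix := by
      intro e he hfix
      rw [memEK (hEEX he)]
      refine hmem _ ((s.mem_B h.F_le_E).2 he) fun t ht => ?_
      obtain ⟨r, hr, hact⟩ := hlift t ht
      rw [← hact e (hEEX he) (hEEX (norm_mem (hRE hr) he)) he, s.π_eq_iff]
      have h1 := hfix r hr
      change (r * e * r⁻¹)⁻¹ * e ∈ F
      have e1 : (r * e * r⁻¹)⁻¹ * e = e⁻¹ * (c e r * e) := by rw [c]; group
      rw [e1, ← hFc e he _ h1, inv_mul_cancel_left]
      exact h1
    gen := by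
      intro k hk
      obtain ⟨t, ht, h1⟩ := hgen
      obtain ⟨m', hm', h2⟩ := h1 _ ((memEK (hEKX hk)).1 hk)
      obtain ⟨⟨e, heX⟩, rfl⟩ := s.surj m'
      have heE : e ∈ NOne.Flat.EE V F := (s.mem_B h.F_le_E).1 hm'
      obtain ⟨r, hr, hact⟩ := hlift t ht
      have hreE : r * e * r⁻¹ ∈ NOne.Flat.EE V F := norm_mem (hRE hr) heE
      rw [← hact e heX (hEEX hreE) heE, ← map_inv, ← map_mul, s.π_eq_iff] at h2
      have h3 : k⁻¹ * (r * e * r⁻¹ * e⁻¹) ∈ F := h2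
      have h4 : k = (c e r)⁻¹ * (k⁻¹ * (r * e * r⁻¹ * e⁻¹))⁻¹ := by rw [c]; group
      rw [h4]
      refine mul_mem (inv_mem (mem_sup_right (subset_closure ⟨e, heE, r, hr, rfl⟩))) (inv_mem (mem_sup_left h3))
    memD := memD
    big := ?_ }
  -- `|R : D| ≥ |T : A₀|`
  have hidx : (s.A V).relIndex T = (NOne.Flat.EE V F).relIndex V := by
    have h1 := NOne.Flat.card_mul_relIndex' hAT
    rw [hcard, pow_two] at h1
    rw [← hAcard]
    exact Nat.eq_of_mul_eq_mul_left Nat.card_pos h1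
  rw [← hidx]
  choose! r hr hact using hlift
  let φ : (T ⧸ (s.A V).subgroupOf T) →
      (↥(RR s T) ⧸ (NOne.Frame.stab (RR s T) (NOne.Flat.EE V F) F hXE).subgroupOf (RR s T)) :=
    fun q => QuotientGroup.mk ⟨r (q.out : T), hr _ (q.out : T).2⟩
  have hφ : Function.Injective φ := by
    intro p q hpq
    have h1 : (⟨r (p.out : T), hr _ (p.out : T).2⟩ : ↥(RR s T))⁻¹ * ⟨r (q.out : T), hr _ (q.out : T).2⟩ ∈
        (NOne.Frame.stab (RR s T) (NOne.Flat.EE V F) F hXE).subgroupOf (RR s T) := QuotientGroup.eq.1 hpq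
    rw [mem_subgroupOf, memD] at h1
    obtain ⟨h1, h2⟩ := h1
    have h3 := ((hact _ (p.out : T).2).inv (hRE (hr _ (p.out : T).2))).mul (hact _ (q.out : T).2)
      (inv_mem (hRE (hr _ (p.out : T).2))) (hRE (hr _ (q.out : T).2))
    have h4 : ((p.out : T) : MulAut N)⁻¹ * ((q.out : T) : MulAut N) ∈ s.A V := by
      refine hk _ (mul_mem (inv_mem (p.out : T).2) (q.out : T).2) fun m hm => ?_
      obtain ⟨⟨e, heX⟩, rfl⟩ := s.surj m
      have heE : e ∈ NOne.Flat.EE V F := (s.mem_B h.F_le_E).1 hm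
      rw [← h3 e heX (hEEX (norm_mem (hRE h1) heE)) heE, s.π_eq_iff]
      have h5 : c e ((r (p.out : T))⁻¹ * r (q.out : T)) ∈ F := h2 e heE
      set y : G := (r (p.out : T))⁻¹ * r (q.out : T) with hy
      change (y * e * y⁻¹)⁻¹ * e ∈ F
      have e1 : (y * e * y⁻¹)⁻¹ * e = e⁻¹ * (c e y * e) := by rw [c]; group
      rw [e1, ← hFc e heE _ h5, inv_mul_cancel_left]
      exact h5
    rw [← p.out_eq, ← q.out_eq]
    exact QuotientGroup.eq.2 h4
  exact Nat.card_le_card_of_injective φ hφ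

end

/-- **FIELD-5**: THEOREM SZ from CLAIM A. -/
theorem noSz (hSz : SzOutS.{u}) : NoSz.{u} := by
  intro G _ _ V F h h4 x hx hb N _ s hs
  have : Finite N := Finite.of_surjective s.π s.surj
  have hspr := h.toHyp.exists_spr hx hb h.f0' s
  have e0 : MulAut.conj (gi x false) • V = V := by
    change MulAut.conj (1 : G) • V = V
    rw [map_one, one_smul]
  have e0E : MulAut.conj (gi x false) • NOne.Flat.EE V F = NOne.Flat.EE V F := by
    change MulAut.conj (1 : G) • NOne.Flat.EE V F = NOne.Flat.EE V F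
    rw [map_one, one_smul]
  have hVH : V ≤ HX V F x := le_inf (le_sup_left.trans (h.sup_norm_EEx hx)) h.V_le_X
  have hAcard : Nat.card (s.A V) = (NOne.Flat.EE V F).relIndex V := by
    refine s.card_A hVH fun k hk => ?_
    rw [s.ρ_eq_one_iff]
    have h1 := h.toHyp.ker_conj hx hb (h.toHyp.good_one hx hb) (k := k) (by rwa [map_one, one_smul])
    rw [map_one, one_smul] at h1
    exact h1
  obtain ⟨T, K, hT⟩ := hSz N _ _ hspr (by
    change 4 ≤ Nat.card (s.A (MulAut.conj (gi x false) • V))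
    rw [e0, hAcard]
    exact h4) (by
    change IsSz ↥(s.A (MulAut.conj (gi x false) • V) ⊔ s.A (MulAut.conj x • V))
      (Nat.card (s.A (MulAut.conj (gi x false) • V)))
    rw [e0, hAcard]
    exact hs)
  change s.A (MulAut.conj (gi x false) • V) ≤ T ∧ T ≤ s.A (MulAut.conj (gi x false) • V) ⊔ s.A (MulAut.conj x • V) ∧
    Nat.card T = Nat.card (s.A (MulAut.conj (gi x false) • V)) ^ 2 ∧
    (∀ t ∈ T, ∀ a ∈ s.A (MulAut.conj (gi x false) • V), t * a = a * t) ∧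
    (∀ t ∈ T, ∀ m ∈ s.B (MulAut.conj (gi x false) • NOne.Flat.EE V F),
      t m ∈ s.B (MulAut.conj (gi x false) • NOne.Flat.EE V F)) ∧
    K ≤ s.B (MulAut.conj (gi x false) • NOne.Flat.EE V F) ∧
    Nat.card K ^ 2 = Nat.card (s.B (MulAut.conj (gi x false) • NOne.Flat.EE V F)) ∧
    (∀ t ∈ T, ∀ m ∈ s.B (MulAut.conj (gi x false) • NOne.Flat.EE V F), t m * m⁻¹ ∈ K) ∧
    (∀ t ∈ T, ∀ m ∈ K, t m = m) ∧
    (∀ t ∈ T, (∀ m ∈ s.B (MulAut.conj (gi x false) • NOne.Flat.EE V F), t m = m) →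
      t ∈ s.A (MulAut.conj (gi x false) • V)) ∧
    (∀ m ∈ s.B (MulAut.conj (gi x false) • NOne.Flat.EE V F), (∀ t ∈ T, t m = m) → m ∈ K) ∧
    ∃ t ∈ T, ∀ m ∈ K, ∃ m' ∈ s.B (MulAut.conj (gi x false) • NOne.Flat.EE V F), m = t m' * m'⁻¹ at hT
  rw [e0, e0E] at hT
  obtain ⟨h1, h2, h3, h5, h6, h7, h8, -, h10, h11, h12, h13⟩ := hT
  obtain ⟨EK, R, D, hz⟩ := h.exists_szR hx hb s h1 h2 h3 h5 h6 h7 h8 h10 h11 h12 h13 hAcard
  exact hz.false_of h.toHyp (fun n hn hv he => h.nn hn hv fun e he' => by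
    rw [c, he e he', mul_inv_cancel_right, mul_inv_cancel]) h.noffM

end Cfsg.Agent.Omega.NO1.Field

end
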