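import Cfsg.Agent.Mrg.Omega.NO1.Field.SL2T
import Cfsg.Agent.Mrg.Omega.NO1.Field.FZero
import Cfsg.Agent.Mrg.Omega.NO1.Alpha.Bridge

section


/-!
# THEOREM FIELD: `K₁` from the SL₂ type (FIELD-2)

`h : Hyp V F`, `x ∈ C_G(F)` bad, `s : Sect (HX V F x) (EX V F x) F N`, `T : SL2T` on `N = E E^x / F`:

* `exists_sub` : for `e ∈ E - F` a subgroup `F ≤ A₁ ≤ E^x`, `|A₁ / F| = |V / E|`, `[V, A₁, A₁] = 1`,
  `e ∈ [v, s] F` for every `s ∈ A₁ - F` and some `v ∈ V - E`;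
* `exists_K1` : `K1 V F e A₁`.
-/

set_option autoImplicit false
set_option linter.unusedSectionVars false

namespace Cfsg.Agent.Omega.NO1.Field

open Subgroup Cfsg Cfsg.Agent.ZN
open Cfsg.Agent.Omega.NOne.NearFF (c c_def)
open Cfsg.Agent.Omega.NOne.Flat (Hyp BadX Sect EX HX Spr gi Good)
open scoped Pointwise

universe u

section sect

variable {G : Type u} [Group G] {V F : Subgroup G} {x : G} {N : Type u} [Group N]

/-- `E / F`, `E^x / F` -/
abbrev BB (s : Sect (HX V F x) (EX V F x) F N) : Bool → Subgroup N :=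
  fun i => s.B (MulAut.conj (gi x i) • NOne.Flat.EE V F)

/-- `V`, `V^x` on `E E^x / F` -/
abbrev AA (s : Sect (HX V F x) (EX V F x) F N) : Bool → Subgroup (MulAut N) :=
  fun i => s.A (MulAut.conj (gi x i) • V)

theorem gi_false (K : Subgroup G) : MulAut.conj (gi x false) • K = K := by
  change MulAut.conj (1 : G) • K = K
  rw [map_one, one_smul]

theorem gi_true (K : Subgroup G) : MulAut.conj (gi x true) • K = MulAut.conj x • K := rfl

end sect

section main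

variable {G : Type u} [Group G] [Finite G] {V F : Subgroup G} (h : Hyp V F) {x : G}
  (hx : x ∈ centralizer (F : Set G)) (hb : BadX V x) {N : Type u} [Group N]
  (s : Sect (HX V F x) (EX V F x) F N)

include h hx hb in
theorem V_le_HX : V ≤ HX V F x := by
  have h1 := h.conjV_le_HX (h.good_one hx hb)
  rwa [map_one, one_smul] at h1

include h hx hb in
theorem conjV_le_HX' : MulAut.conj x • V ≤ HX V F x := h.conjV_le_HX (h.good_self hx hb)

theorem E_le_EX : NOne.Flat.EE V F ≤ EX V F x := le_sup_left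

theorem conjE_le_EX : MulAut.conj x • NOne.Flat.EE V F ≤ EX V F x := le_sup_right

theorem c_mem_EX {g n : G} (hg : g ∈ HX V F x) (hn : n ∈ EX V F x)
    (hN : ∀ h ∈ HX V F x, ∀ n ∈ EX V F x, h * n * h⁻¹ ∈ EX V F x) : c g n ∈ EX V F x := by
  rw [c_def]
  exact mul_mem (hN g hg n hn) (inv_mem hn)

/-- `[n, g]` in `N` -/
theorem ρπ_mul (hsq : ∀ m : N, m * m = 1) (g : ↥(HX V F x)) (n : ↥(EX V F x)) :
    s.ρ g (s.π n) * s.π n = s.π ⟨c (g : G) n, c_mem_EX g.2 n.2 s.nN⟩ := by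
  have h1 : s.π n = s.π n⁻¹ := by
    rw [map_inv]
    exact (inv_eq_of_mul_eq_one_left (hsq _)).symm
  calc s.ρ g (s.π n) * s.π n = s.ρ g (s.π n) * s.π n⁻¹ := by rw [← h1]
    _ = s.π ⟨(g : G) * n * (g : G)⁻¹, s.nN g g.2 n n.2⟩ * s.π n⁻¹ := by rw [s.ρπ]
    _ = s.π (⟨(g : G) * n * (g : G)⁻¹, s.nN g g.2 n n.2⟩ * n⁻¹) := by rw [map_mul]
    _ = _ := by
      congr 1

theorem mem_AA_false {a : MulAut N} (ha : a ∈ AA s false) : ∃ v ∈ V, ∃ hv : v ∈ HX V F x, s.ρ ⟨v, hv⟩ = a := by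
  obtain ⟨⟨v, hvH⟩, hv, rfl⟩ := ha
  have hv' : v ∈ MulAut.conj (gi x false) • V := hv
  rw [gi_false] at hv'
  exact ⟨v, hv', hvH, rfl⟩

theorem ρ_mem_AA {v : G} (hv : v ∈ V) (hvH : v ∈ HX V F x) : s.ρ ⟨v, hvH⟩ ∈ AA s false := by
  refine ⟨⟨v, hvH⟩, ?_, rfl⟩
  change v ∈ MulAut.conj (gi x false) • V
  rwa [gi_false]

include h hx hb in
theorem card_AA (i : Bool) : Nat.card (AA s i) = (NOne.Flat.EE V F).relIndex V := by
  have hgood := h.good_gi hx hb
  rw [s.card_A (h.conjV_le_HX (hgood i)) (K' := MulAut.conj (gi x i) • NOne.Flat.EE V F)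
    (fun k hk => by rw [s.ρ_eq_one_iff]; exact h.ker_conj hx hb (hgood i) hk)]
  have e1 := NOne.Flat.card_mul_relIndex' (inf_le_left : NOne.Flat.EE V F ≤ V)
  have e2 := NOne.Flat.card_mul_relIndex' (Hyp.conjE_le_conjV (V := V) (F := F) (gi x i))
  rw [NOne.Choice.card_conj, NOne.Choice.card_conj, ← e1] at e2
  exact Nat.eq_of_mul_eq_mul_left Nat.card_pos e2

/-- the subgroup `A₁` -/
def A1 (S : Spr (BB s) (AA s)) (b : N) : Subgroup G := ((KK S true b).comap s.π).map (EX V F x).subtype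

theorem mem_A1 (S : Spr (BB s) (AA s)) {b : N} {n : G} :
    n ∈ A1 s S b ↔ ∃ hn : n ∈ EX V F x, s.π ⟨n, hn⟩ ∈ KK S true b := by
  constructor
  · rintro ⟨⟨n, hn⟩, h1, rfl⟩
    exact ⟨hn, h1⟩
  · rintro ⟨hn, h1⟩
    exact ⟨⟨n, hn⟩, h1, rfl⟩

/-- **`A₁`** -/
theorem exists_sub (S : Spr (BB s) (AA s)) (T : SL2T (BB s) (AA s)) {e : G} (he : e ∈ NOne.Flat.EE V F)
    (heF : e ∉ F) (h : Hyp V F) (hx : x ∈ centralizer (F : Set G)) (hb : BadX V x) :
    ∃ A₁ : Subgroup G, F ≤ A₁ ∧ A₁ ≤ MulAut.conj x • NOne.Flat.EE V F ∧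
      F.relIndex A₁ = (NOne.Flat.EE V F).relIndex V ∧
      (∀ t ∈ A₁, t ∉ F → ∃ v ∈ V, v ∉ NOne.Flat.EE V F ∧ (c v t)⁻¹ * e ∈ F) ∧
      (∀ v ∈ V, ∀ a ∈ A₁, ∀ t ∈ A₁, c (c v a) t = 1) ∧
      (∀ v ∈ V, ∀ w ∈ V, w ∉ NOne.Flat.EE V F → ∀ a ∈ A₁, ∃ t ∈ A₁, (c v a)⁻¹ * c w t ∈ F) := by
  have : Finite N := Finite.of_surjective s.π s.surj
  have hVH := V_le_HX h hx hb
  have hEX : NOne.Flat.EE V F ≤ EX V F x := E_le_EX
  have hF1 : ∀ n : ↥(EX V F x), s.π n = 1 ↔ (n : G) ∈ F := s.ker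
  set b : N := s.π ⟨e, hEX he⟩ with hbd
  have hbB : b ∈ BB s false := ⟨⟨e, hEX he⟩, by
    change e ∈ MulAut.conj (gi x false) • NOne.Flat.EE V F
    rwa [gi_false], rfl⟩
  have hb1 : b ≠ 1 := fun h1 => heF ((hF1 _).1 h1)
  have hbB' : b ∉ BB s true := fun h1 => hb1 (Spr.eq_one S (by decide) hbB h1)
  have hFx := h.F_le_conjE hx
  -- `A₁ ≤ E^x`
  have hle : A1 s S b ≤ MulAut.conj x • NOne.Flat.EE V F := by
    intro n hn
    obtain ⟨hnX, hn'⟩ := (mem_A1 s S).1 hn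
    exact (s.mem_B hFx).1 (KK_le S true b hn')
  have hFle : F ≤ A1 s S b := by
    intro f hf
    have hfX : f ∈ EX V F x := hEX (h.F_le_E hf)
    refine (mem_A1 s S).2 ⟨hfX, ?_⟩
    rw [(hF1 ⟨f, hfX⟩).2 hf]
    exact one_mem _
  have hAW : A1 s S b ≤ NOne.Flat.WW V F := hle.trans (Hyp.conjE_le_W hx)
  -- `ρ v ≠ 1`
  have hρ : ∀ v (hv : v ∈ V), s.ρ ⟨v, hVH hv⟩ = 1 ↔ v ∈ NOne.Flat.EE V F := by
    intro v hv
    have h1 := h.ker_conj (k := v) hx hb (h.good_one hx hb) (by rwa [map_one, one_smul])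
    rw [map_one, one_smul] at h1
    rw [s.ρ_eq_one_iff]
    exact h1
  -- `[n, v]`
  have hcom : ∀ v (hv : v ∈ V) (n : ↥(EX V F x)), s.ρ ⟨v, hVH hv⟩ (s.π n) * s.π n =
      s.π ⟨c v n, c_mem_EX (hVH hv) n.2 s.nN⟩ := fun v hv n =>
    ρπ_mul s S.sq ⟨v, hVH hv⟩ n
  have hπ : ∀ {a a' : G} (ha : a ∈ EX V F x) (ha' : a' ∈ EX V F x), s.π ⟨a, ha⟩ = s.π ⟨a', ha'⟩ → a⁻¹ * a' ∈ F :=
    fun ha ha' h1 => s.π_eq_iff.1 h1
  refine ⟨A1 s S b, hFle, hle, ?_, ?_, ?_, ?_⟩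
  · have h1 : s.B (A1 s S b) = KK S true b := by
      apply le_antisymm
      · rintro _ ⟨n, hn, rfl⟩
        obtain ⟨hnX, hn'⟩ := (mem_A1 s S).1 (mem_subgroupOf.1 hn)
        exact hn'
      · intro k hk
        obtain ⟨n, rfl⟩ := s.surj k
        exact ⟨n, mem_subgroupOf.2 ((mem_A1 s S).2 ⟨n.2, hk⟩), rfl⟩
    rw [← s.card_B (hle.trans conjE_le_EX), h1, card_KK S hbB', card_AA h hx hb s true]
  · intro t ht htF
    obtain ⟨htX, ht'⟩ := (mem_A1 s S).1 ht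
    obtain ⟨a, ha, ha1, hab⟩ := T.exists_t S hbB ht' (fun h1 => htF ((hF1 _).1 h1))
    obtain ⟨v, hv, hvH, rfl⟩ := mem_AA_false s ha
    refine ⟨v, hv, fun hvE => ha1 ((hρ v hv).2 hvE), ?_⟩
    have h1 := hcom v hv ⟨t, htX⟩
    exact hπ _ _ (h1.symm.trans hab)
  · intro v hv a ha t ht
    obtain ⟨haX, ha'⟩ := (mem_A1 s S).1 ha
    obtain ⟨htX, ht'⟩ := (mem_A1 s S).1 ht
    have haW := hAW ha
    have htW := hAW ht
    have h1 := hcom v hv ⟨a, haX⟩
    by_cases hne : s.ρ ⟨v, hVH hv⟩ (s.π ⟨a, haX⟩) * s.π ⟨a, haX⟩ = 1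
    · rw [h1, hF1] at hne
      exact Hyp.c_F hne htW
    by_cases htF : t ∈ F
    · have h2 : c v a * t = t * c v a := (Hyp.F_comm htF (h.V_le_X (h.c_memV hv haW))).symm
      rw [c_def, h2, mul_inv_cancel_right, mul_inv_cancel]
    have h2 := T.closure S hbB ht' ha' (ρ_mem_AA s hv (hVH hv)) hne
    rw [h1] at h2 hne
    have h3 : s.π ⟨c v a, c_mem_EX (hVH hv) haX s.nN⟩ ∈ BB s false := by
      rw [← h1]
      exact comm_mem_B S (ρ_mem_AA s hv (hVH hv)) _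
    obtain ⟨r, hr, hr1, hrb⟩ := T.exists_t S h3 h2 (fun h4 => htF ((hF1 _).1 h4))
    obtain ⟨w, hw, hwH, rfl⟩ := mem_AA_false s hr
    have h4 := hcom w hw ⟨t, htX⟩
    have h5 := hπ _ _ (h4.symm.trans hrb)
    -- `c v a = c w t * f`
    have h6 : c v a = c w t * ((c w t)⁻¹ * c v a) := by group
    rw [h6, h.c_mul_left (h.c_memV hw htW) (h.F_le_V h5) htW, h.beta_self hw htW, Hyp.c_F h5 htW, one_mul]
  · intro v hv w hw hwE a ha
    obtain ⟨haX, ha'⟩ := (mem_A1 s S).1 ha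
    obtain ⟨k', hk', hkk⟩ := T.line S hbB ha' (ρ_mem_AA s hv (hVH hv)) (ρ_mem_AA s hw (hVH hw))
      (fun h1 => hwE ((hρ w hw).1 h1))
    obtain ⟨t, rfl⟩ := s.surj k'
    refine ⟨t, (mem_A1 s S).2 ⟨t.2, hk'⟩, ?_⟩
    rw [hcom v hv, hcom w hw] at hkk
    exact hπ _ _ hkk

end main

end Cfsg.Agent.Omega.NO1.Field

end

section


/-!
# THEOREM FIELD: `K1All` and `SC` from FIELD-1 and FIELD-5

* `SL2Spr` : the output of FIELD-1: `SL2T B A` or Sz;
* `exists_K1_of` : `K1 V F e A₁` from the SL₂ type, `exists_K1_two` : `|V / E| = 2`;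
* `k1All_of : SL2Spr → NoSz → K1All`;
* `sc_of : SL2Spr → NoSz → HypF V F → SC V F` (`SC` of `Alpha/Bridge.lean`).
-/

set_option autoImplicit false
set_option linter.unusedSectionVars false

namespace Cfsg.Agent.Omega.NO1.Field

open Subgroup Cfsg Cfsg.Agent.ZN
open Cfsg.Agent.Omega.NOne.NearFF (c c_def)
open Cfsg.Agent.Omega.NOne.Flat (Hyp BadX Sect EX HX Spr gi Good NN WW)
open Cfsg.Agent.Omega.NO1.Alpha (SC)
open scoped Pointwise

universe u

/-- **FIELD-1**, the form used here. -/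
def SL2Spr : Prop :=
  ∀ (M : Type u) [Group M] [Finite M] (B : Bool → Subgroup M) (A : Bool → Subgroup (MulAut M)),
    Spr B A → 4 ≤ Nat.card (A false) → SL2T B A ∨ IsSz ↥(A false ⊔ A true) (Nat.card (A false))

section

variable {G : Type u} [Group G] [Finite G] {V F : Subgroup G} (h : Hyp V F)
include h

/-- `K₁` from `A₁ ≤ E^x`. -/
theorem K1_of {x e : G} (hx : x ∈ centralizer (F : Set G)) (hb : BadX V x) {A : Subgroup G} (hF : F ≤ A)
    (hA : A ≤ MulAut.conj x • NOne.Flat.EE V F) (hc : F.relIndex A = (NOne.Flat.EE V F).relIndex V)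
    (hex : ∀ t ∈ A, t ∉ F → ∃ v ∈ V, v ∉ NOne.Flat.EE V F ∧ (c v t)⁻¹ * e ∈ F)
    (hq : ∀ v ∈ V, ∀ a ∈ A, ∀ t ∈ A, c (c v a) t = 1)
    (hl : ∀ v ∈ V, ∀ w ∈ V, w ∉ NOne.Flat.EE V F → ∀ a ∈ A, ∃ t ∈ A, (c v a)⁻¹ * c w t ∈ F) :
    K1 V F e (A ⊔ NN V F) := by
  have hAW : A ≤ WW V F := hA.trans (Hyp.conjE_le_W hx)
  have hmem : ∀ s ∈ A ⊔ NN V F, ∃ a ∈ A, ∃ n ∈ NN V F, s = a * n := by
    intro s hs
    have h3 : s ∈ ((A ⊔ NN V F : Subgroup G) : Set G) := hs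
    rw [Subgroup.coe_mul_of_left_le_normalizer_right _ _ (hAW.trans h.W_norm_NN)] at h3
    obtain ⟨a, ha, n, hn, rfl⟩ := h3
    exact ⟨a, ha, n, hn, rfl⟩
  have hNW : NN V F ≤ WW V F := Hyp.NN_le_W
  -- `[v, a n] ≡ [v, a]`
  have hcn : ∀ v ∈ V, ∀ a ∈ A, ∀ n ∈ NN V F, (c v (a * n))⁻¹ * c v a ∈ F := by
    intro v hv a ha n hn
    rw [h.c_mul_right hv (hAW ha) (hNW hn)]
    have h1 : c v n ∈ F := h.c_mem_F hv hn
    have h2 : c (c v n) a = 1 := Hyp.c_F h1 (hAW ha)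
    rw [h2, mul_one, mul_inv_rev]
    have e1 : (c v n)⁻¹ * (c v a)⁻¹ * c v a = (c v n)⁻¹ := by group
    rw [e1]
    exact inv_mem h1
  exact
    { NA := le_sup_right
      AW := sup_le hAW hNW
      card := by
        have h1 : A ⊓ NN V F = F := by
          refine le_antisymm ?_ (le_inf hF h.F_le_NN)
          calc A ⊓ NN V F ≤ MulAut.conj x • NOne.Flat.EE V F ⊓ NN V F := inf_le_inf_right _ hA
            _ = F := h.conjE_inf_NN hx hb
        have h2 : (NN V F).relIndex (A ⊔ NN V F) = (NN V F).relIndex A := by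
          rw [sup_comm]
          exact relIndex_sup_left_of_le_norm (hAW.trans h.W_norm_NN)
        rw [h2, ← inf_relIndex_left, h1, hc]
      quad := by
        intro v hv s hs t ht
        obtain ⟨a, ha, n, hn, rfl⟩ := hmem s hs
        obtain ⟨b, hb', m, hm, rfl⟩ := hmem t ht
        have h1 := hcn v hv a ha n hn
        have hW1 : a * n ∈ WW V F := mul_mem (hAW ha) (hNW hn)
        have hW2 : b * m ∈ WW V F := mul_mem (hAW hb') (hNW hm)
        -- `[v, a n] = [v, a] f`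
        have h2 : c v (a * n) = c v a * ((c v (a * n))⁻¹ * c v a)⁻¹ := by group
        rw [h2, h.c_mul_left (h.c_memV hv (hAW ha)) (h.F_le_V (inv_mem h1)) hW2, Hyp.c_F (inv_mem h1) hW2, mul_one]
        have h3 := h.c_memE hv (hAW ha)
        rw [h.c_mul_right' h3 (hAW hb') (hNW hm), hq v hv a ha b hb', one_mul]
        exact Hyp.c_E_NN h3 hm
      ex := by
        intro s hs hsN
        obtain ⟨a, ha, n, hn, rfl⟩ := hmem s hs
        obtain ⟨v, hv, hvE, h1⟩ := hex a ha fun haF => hsN (mul_mem (h.F_le_NN haF) hn)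
        refine ⟨v, hv, hvE, ?_⟩
        have e1 : (c v (a * n))⁻¹ * e = (c v (a * n))⁻¹ * c v a * ((c v a)⁻¹ * e) := by group
        rw [e1]
        exact mul_mem (hcn v hv a ha n hn) h1
      line := by
        intro v hv w hw hwE s hs
        obtain ⟨a, ha, n, hn, rfl⟩ := hmem s hs
        obtain ⟨t, ht, h1⟩ := hl v hv w hw hwE a ha
        refine ⟨t, mem_sup_left ht, ?_⟩
        have e1 : (c v (a * n))⁻¹ * c w t = (c v (a * n))⁻¹ * c v a * ((c v a)⁻¹ * c w t) := by group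
        rw [e1]
        exact mul_mem (hcn v hv a ha n hn) h1 }
where
  relIndex_sup_left_of_le_norm {A N : Subgroup G} (hn : A ≤ normalizer (N : Set G)) :
      N.relIndex (N ⊔ A) = N.relIndex A := by
    have hN : (N.subgroupOf (N ⊔ A)).Normal := normal_subgroupOf_of_le_normalizer (sup_le le_normalizer hn)
    have h1 := relIndex_sup_left (K := N.subgroupOf (N ⊔ A)) (H := A.subgroupOf (N ⊔ A))
    rw [← subgroupOf_sup le_sup_left le_sup_right, relIndex_subgroupOf le_rfl, relIndex_subgroupOf le_sup_right] at h1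
    exact h1

/-- the case `|V / E| = 2` -/
theorem exists_K1_two (h2 : (NOne.Flat.EE V F).relIndex V = 2) {e : G} (he : e ∈ NOne.Flat.EE V F) (heF : e ∉ F) :
    ∃ A₁ : Subgroup G, K1 V F e A₁ := by
  obtain ⟨w, hw, hwE⟩ := h.exists_not_mem
  obtain ⟨x, hx, hb, -, -⟩ := h.exists_near hw hwE
  obtain ⟨s, hs, hse⟩ := h.surj hw hwE he
  obtain ⟨f, hf, hfn⟩ := h.exists_conjE_mul hx hb hs
  have hfW : f ∈ WW V F := Hyp.conjE_le_W hx hf
  have hff : f * f ∈ F := h.sq_W hfW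
  have hfc : ∀ g ∈ F, g * f = f * g := fun g hg => Hyp.F_comm hg (Hyp.W_le_X hfW)
  have hwf : (c w f)⁻¹ * e ∈ F := by
    have h1 : (c w f)⁻¹ * c w s ∈ F := (h.c_iff hw hfW hs).2 (h.c_mem_F hw hfn)
    have h3 : (c w s)⁻¹ * e ∈ F := by
      rw [h.inv (h.c_memV hw hs)]
      rwa [h.inv he.1] at hse
    have h4 := mul_mem h1 h3
    rwa [mul_assoc, mul_inv_cancel_left] at h4
  have hfF : f ∉ F := by
    intro h1
    apply heF
    have h3 : c w f = 1 := by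
      rw [c_def, ← Hyp.F_comm h1 (h.V_le_X hw), mul_inv_cancel_right, mul_inv_cancel]
    rw [h3, inv_one, one_mul] at hwf
    exact hwf
  let A : Subgroup G :=
    { carrier := {a | a ∈ F ∨ f⁻¹ * a ∈ F}
      one_mem' := Or.inl (one_mem _)
      mul_mem' := by
        rintro a b (ha | ha) (hb | hb)
        · exact Or.inl (mul_mem ha hb)
        · right
          have e1 : f⁻¹ * (a * b) = a * (f⁻¹ * b) := by
            have h3 : f⁻¹ * a = a * f⁻¹ := by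
              rw [inv_mul_eq_iff_eq_mul, ← mul_assoc, ← hfc a ha, mul_inv_cancel_right]
            rw [← mul_assoc, h3, mul_assoc]
          rw [e1]
          exact mul_mem ha hb
        · right
          rw [← mul_assoc]
          exact mul_mem ha hb
        · left
          have e1 : a * b = f * f * (f⁻¹ * a) * (f⁻¹ * b) := by
            calc a * b = f * ((f⁻¹ * a) * f) * (f⁻¹ * b) := by group
              _ = f * (f * (f⁻¹ * a)) * (f⁻¹ * b) := by rw [hfc _ ha]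
              _ = _ := by group
          rw [e1]
          exact mul_mem (mul_mem hff ha) hb
      inv_mem' := by
        rintro a (ha | ha)
        · exact Or.inl (inv_mem ha)
        · right
          have h3 := hfc _ (inv_mem ha)
          have e1 : f⁻¹ * a⁻¹ = (f⁻¹ * a)⁻¹ * (f * f)⁻¹ := by
            have h4 : f⁻¹ * (f⁻¹ * a)⁻¹ = (f⁻¹ * a)⁻¹ * f⁻¹ := by
              rw [inv_mul_eq_iff_eq_mul, ← mul_assoc, ← h3, mul_inv_cancel_right]
            calc f⁻¹ * a⁻¹ = f⁻¹ * (f⁻¹ * a)⁻¹ * f⁻¹ := by group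
              _ = (f⁻¹ * a)⁻¹ * f⁻¹ * f⁻¹ := by rw [h4]
              _ = _ := by group
          rw [e1]
          exact mul_mem (inv_mem ha) (inv_mem hff) }
  have hmem : ∀ a, a ∈ A ↔ a ∈ F ∨ f⁻¹ * a ∈ F := fun a => Iff.rfl
  have hFA : F ≤ A := fun a ha => Or.inl ha
  have hAE : A ≤ MulAut.conj x • NOne.Flat.EE V F := by
    rintro a (ha | ha)
    · exact h.F_le_conjE hx ha
    · have e1 : a = f * (f⁻¹ * a) := by group
      rw [e1]
      exact mul_mem hf (h.F_le_conjE hx ha)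
  have hidx : F.relIndex A = 2 := by
    rw [relIndex, Subgroup.index_eq_two_iff]
    refine ⟨⟨f, Or.inr (by rw [inv_mul_cancel]; exact one_mem _)⟩, ?_⟩
    rintro ⟨b, hb⟩
    rw [mem_subgroupOf, mem_subgroupOf]
    change Xor (b * f ∈ F) (b ∈ F)
    rcases hb with hb | hb
    · refine Or.inr ⟨hb, fun h3 => hfF ((mul_mem_cancel_left hb).1 h3)⟩
    · refine Or.inl ⟨?_, fun h3 => hfF ?_⟩
      · have e1 : b * f = f * f * (f⁻¹ * b) := by
          calc b * f = f * ((f⁻¹ * b) * f) := by group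
            _ = f * (f * (f⁻¹ * b)) := by rw [hfc _ hb]
            _ = _ := by group
        rw [e1]
        exact mul_mem hff hb
      · have e1 : f = b * (f⁻¹ * b)⁻¹ := by group
        rw [e1]
        exact mul_mem h3 (inv_mem hb)
  -- `[v, a] ≡ [v, f]` for `a ∈ A - F`
  have hAW : A ≤ WW V F := hAE.trans (Hyp.conjE_le_W hx)
  have hva : ∀ v ∈ V, ∀ a ∈ A, a ∉ F → (c v a)⁻¹ * c v f ∈ F := by
    intro v hv a ha haF
    rcases ha with ha | ha
    · exact absurd ha haF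
    · refine (h.c_iff hv (hAW (Or.inr ha)) hfW).2 ?_
      refine h.c_mem_F hv (h.F_le_NN ?_)
      have e1 : a⁻¹ * f = (f⁻¹ * a)⁻¹ := by group
      rw [e1]
      exact inv_mem ha
  refine ⟨_, K1_of h hx hb hFA hAE (by rw [hidx, h2]) ?_ ?_ ?_⟩
  · intro t ht htF
    refine ⟨w, hw, hwE, ?_⟩
    have e1 : (c w t)⁻¹ * e = (c w t)⁻¹ * c w f * ((c w f)⁻¹ * e) := by group
    rw [e1]
    exact mul_mem (hva w hw t ht htF) hwf
  · intro v hv a ha t ht
    by_cases haF : a ∈ F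
    · have h3 : c v a = 1 := by
        rw [c_def, ← Hyp.F_comm haF (h.V_le_X hv), mul_inv_cancel_right, mul_inv_cancel]
      rw [h3, c_def]
      group
    by_cases htF : t ∈ F
    · have h3 := Hyp.F_comm htF (h.V_le_X (h.c_memV hv (hAW ha)))
      rw [c_def (c v a), ← h3, mul_inv_cancel_right, mul_inv_cancel]
    -- `a = f a'`, `t = f t'`
    have ha' : f⁻¹ * a ∈ F := by
      rcases ha with ha | ha
      · exact absurd ha haF
      · exact ha
    have ht' : f⁻¹ * t ∈ F := by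
      rcases ht with ht | ht
      · exact absurd ht htF
      · exact ht
    have key : ∀ v ∈ V, ∀ a, f⁻¹ * a ∈ F → c v a = c v f := by
      intro v hv a ha
      have e1 : a = (f⁻¹ * a) * f := by
        rw [hfc _ ha]; group
      rw [e1, h.c_F_mul hv hfW ha]
    rw [key v hv a ha', key _ (h.c_memV hv hfW) t ht']
    exact h.beta_self hv hfW
  · intro v hv w' hw' hwE' a ha
    by_cases hvE : v ∈ NOne.Flat.EE V F
    · refine ⟨1, one_mem _, ?_⟩
      rw [Hyp.c_one_right, mul_one]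
      exact inv_mem (h.comm_EW hvE (hAW ha))
    · refine ⟨a, ha, ?_⟩
      -- `v w' ∈ E`
      have h3 : v * w' ∈ NOne.Flat.EE V F := by
        have h5 := Subgroup.mul_mem_iff_of_index_two h2 (a := (⟨v, hv⟩ : V)) (b := ⟨w', hw'⟩)
        simp only [mem_subgroupOf, Subgroup.coe_mul] at h5
        exact h5.2 (iff_of_false hvE hwE')
      have h4 := h.comm_EW h3 (hAW ha)
      rw [h.c_mul_left hv hw' (hAW ha)] at h4
      rw [h.inv (h.c_memV hv (hAW ha))]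
      exact h4

/-- `SC` from `A₁ ≤ E^x`. -/
theorem SC_of (hsub : ∀ e ∈ NOne.Flat.EE V F, e ∉ F → ∃ x ∈ centralizer (F : Set G), BadX V x ∧
      ∃ A : Subgroup G, F ≤ A ∧ A ≤ MulAut.conj x • NOne.Flat.EE V F ∧
      F.relIndex A = (NOne.Flat.EE V F).relIndex V ∧
      (∀ t ∈ A, t ∉ F → ∃ v ∈ V, v ∉ NOne.Flat.EE V F ∧ (c v t)⁻¹ * e ∈ F) ∧
      (∀ v ∈ V, ∀ a ∈ A, ∀ t ∈ A, c (c v a) t = 1)) : SC V F := by
  intro e he heF
  obtain ⟨x, hx, hb, A, hF, hA, hc, hex, hq⟩ := hsub e he heF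
  have hAW : A ≤ WW V F := hA.trans (Hyp.conjE_le_W hx)
  have hFC : F ≤ centralizer (V : Set G) := h.F_le_V.trans h.comm
  have hAC : A ⊓ centralizer (V : Set G) = F := by
    refine le_antisymm ?_ (le_inf hF hFC)
    calc A ⊓ centralizer (V : Set G) ≤ MulAut.conj x • NOne.Flat.EE V F ⊓ NN V F :=
          le_inf (inf_le_left.trans hA) (le_inf (inf_le_left.trans hAW)
            (inf_le_right.trans (centralizer_le (inf_le_left : NOne.Flat.EE V F ≤ V))))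
      _ = F := h.conjE_inf_NN hx hb
  refine ⟨A, hAW, ?_, ?_, fun s hs t ht v hv => hq v hv t ht s hs⟩
  · rw [← inf_relIndex_left, hAC, hc]
  · intro s hs hsC
    obtain ⟨v, hv, hvE, h1⟩ := hex s hs fun h2 => hsC (hFC h2)
    refine ⟨v, hv, hvE, ?_⟩
    rwa [h.inv (h.c_memV hv (hAW hs))] at h1

end

/-! ### the plug -/

section plug

variable {G : Type u} [Group G] [Finite G] {V F : Subgroup G}

/-- `A₁ ≤ E^x` for every `e ∈ E - F` -/
theorem exists_sub_of (h1 : SL2Spr.{u}) (h5 : NoSz.{u}) (h : HypF V F) (h4 : 4 ≤ (NOne.Flat.EE V F).relIndex V) :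
    ∃ x ∈ centralizer (F : Set G), BadX V x ∧ ∀ e ∈ NOne.Flat.EE V F, e ∉ F →
      ∃ A : Subgroup G, F ≤ A ∧ A ≤ MulAut.conj x • NOne.Flat.EE V F ∧
      F.relIndex A = (NOne.Flat.EE V F).relIndex V ∧
      (∀ t ∈ A, t ∉ F → ∃ v ∈ V, v ∉ NOne.Flat.EE V F ∧ (c v t)⁻¹ * e ∈ F) ∧
      (∀ v ∈ V, ∀ a ∈ A, ∀ t ∈ A, c (c v a) t = 1) ∧
      (∀ v ∈ V, ∀ w ∈ V, w ∉ NOne.Flat.EE V F → ∀ a ∈ A, ∃ t ∈ A, (c v a)⁻¹ * c w t ∈ F) := by
  obtain ⟨w, hw, hwE⟩ := h.toHyp.exists_not_mem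
  obtain ⟨x, hx, hb, -, -⟩ := h.toHyp.exists_near hw hwE
  refine ⟨x, hx, hb, fun e he heF => ?_⟩
  obtain ⟨N, _, ⟨s⟩⟩ := Hyp.exists_sectEX (V := V) (F := F) hx
  have : Finite N := Finite.of_surjective s.π s.surj
  have S := h.toHyp.exists_spr hx hb h.f0' s
  have hcard := card_AA h.toHyp hx hb s false
  have hne : ¬ IsSz ↥(AA s false ⊔ AA s true) (Nat.card (AA s false)) := by
    have h6 := h5 G V F h h4 x hx hb N s
    rw [hcard]
    have e1 : AA s false ⊔ AA s true = s.A V ⊔ s.A (MulAut.conj x • V) := by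
      change s.A (MulAut.conj (gi x false) • V) ⊔ s.A (MulAut.conj x • V) = _
      rw [gi_false]
    rwa [e1]
  have T : SL2T (BB s) (AA s) := (h1 N (BB s) (AA s) S (by rw [hcard]; exact h4)).resolve_right hne
  exact exists_sub s S T he heF h.toHyp hx hb

/-- **FIELD-6** -/
theorem k1All_of (h1 : SL2Spr.{u}) (h5 : NoSz.{u}) : K1All.{u} := by
  intro G _ _ V F h e he heF
  have hne1 : (NOne.Flat.EE V F).relIndex V ≠ 1 := by
    intro h2
    rw [relIndex_eq_one] at h2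
    obtain ⟨w, hw, hwE⟩ := h.toHyp.exists_not_mem
    exact hwE (h2 hw)
  by_cases h2 : (NOne.Flat.EE V F).relIndex V = 2
  · exact exists_K1_two h.toHyp h2 he heF
  · have h4 : 4 ≤ (NOne.Flat.EE V F).relIndex V := by
      have : Fact (Nat.Prime 2) := ⟨Nat.prime_two⟩
      have h3 : (NOne.Flat.EE V F).relIndex V ∣ Nat.card V :=
        Dvd.intro_left _ (NOne.Flat.card_mul_relIndex' (inf_le_left : NOne.Flat.EE V F ≤ V))
      obtain ⟨n, hn⟩ := IsPGroup.iff_card.1 h.toHyp.V_isPGroup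
      rw [hn] at h3
      obtain ⟨k, -, hk⟩ := (Nat.dvd_prime_pow Nat.prime_two).1 h3
      rw [hk] at hne1 h2 ⊢
      rcases k with _ | _ | k
      · exact absurd rfl hne1
      · exact absurd rfl h2
      · rw [pow_succ, pow_succ]
        have : 0 < 2 ^ k := Nat.pos_of_ne_zero (by positivity)
        omega
    obtain ⟨x, hx, hb, hsub⟩ := exists_sub_of h1 h5 h h4
    obtain ⟨A, hF, hA, hc, hex, hq, hl⟩ := hsub e he heF
    exact ⟨_, K1_of h.toHyp hx hb hF hA hc hex hq hl⟩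

/-- **`SC` for `|V / E| ≥ 4`** (817's bridge) -/
theorem sc_of (h1 : SL2Spr.{u}) (h5 : NoSz.{u}) (h : HypF V F) (h4 : 4 ≤ (NOne.Flat.EE V F).relIndex V) :
    SC V F := by
  obtain ⟨x, hx, hb, hsub⟩ := exists_sub_of h1 h5 h h4
  refine SC_of h.toHyp fun e he heF => ?_
  obtain ⟨A, hF, hA, hc, hex, hq, -⟩ := hsub e he heF
  exact ⟨x, hx, hb, A, hF, hA, hc, hex, hq⟩

end plug

end Cfsg.Agent.Omega.NO1.Field

end
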