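import Cfsg.Agent.Mrg.Omega.NO1.Field.FZero
import Cfsg.Agent.Mrg.Omega.All.NOne.TwoC


/-!
# FIELD-3: `C(V/F) ∩ C(E) = C(V)` and (R+), without torus and without field (project OMEGA, N1)

Shortcut (A) of helper868 (bb #20083), (3) of THEOREM SZ (bb #19896, helper406); typed by helper168.

* `HypF.trans` : `N(V) ∩ N(E) ∩ C(F)` is transitive on `(V / E)#`;
* `HypF.nn` : `g ∈ N(V)`, `[V, g] ≤ F`, `[E, g] = 1` ⟹ `g ∈ C(V)`;
* `HypF.rplus` : `g ∈ N(V)`, `[V, g] ≤ E`, `[E, g] ≤ F`, `[F, g] = 1` ⟹ `g ∈ W C(V)`.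
-/

set_option autoImplicit false
set_option linter.unusedSectionVars false

namespace Cfsg.Agent.Omega.NO1.Field

open Subgroup Cfsg Cfsg.Agent.ZN Cfsg.Agent.Omega.MinPar Cfsg.Agent.Omega.Frame
open Cfsg.Agent.Omega.FFThm (OffM ElemM)
open Cfsg.Agent.Omega.NOne.NearFF (c c_def)
open Cfsg.Agent.Omega.NOne.Flat (Hyp BadX Sect EX HX Spr gi WW)
open scoped Pointwise

universe u

section pairing

theorem sum_units {B : Type*} [Group B] [Fintype B] (t : B → ℤˣ) (ht : ∀ b b', t (b * b') = t b * t b')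
    (hne : ∃ b, t b ≠ 1) : ∑ b, ((t b : ℤˣ) : ℤ) = 0 := by
  obtain ⟨c, hc⟩ := hne
  have hc' : t c = -1 := (Int.units_eq_one_or (t c)).resolve_left hc
  have h1 : ∑ b, ((t b : ℤˣ) : ℤ) = ∑ b, ((t (c * b) : ℤˣ) : ℤ) :=
    (Fintype.sum_equiv (Equiv.mulLeft c) _ _ (fun b => rfl)).symm
  have h2 : ∑ b, ((t (c * b) : ℤˣ) : ℤ) = - ∑ b, ((t b : ℤˣ) : ℤ) := by
    rw [← Finset.sum_neg_distrib]
    refine Finset.sum_congr rfl fun b _ => ?_
    rw [ht, hc']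
    simp
  omega

/-- double counting for a pairing with values `±1` -/
theorem pairing_units {A B : Type*} [Group A] [Group B] [Finite A] [Finite B] (s : A → B → ℤˣ)
    (hl : ∀ a a' b, s (a * a') b = s a b * s a' b) (hr : ∀ a b b', s a (b * b') = s a b * s a b') :
    Nat.card {a // ∀ b, s a b = 1} * Nat.card B = Nat.card A * Nat.card {b // ∀ a, s a b = 1} := by
  classical
  have := Fintype.ofFinite A
  have := Fintype.ofFinite B
  have h1 : ∑ a, ∑ b, ((s a b : ℤˣ) : ℤ) = Nat.card {a // ∀ b, s a b = 1} * Nat.card B := by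
    have : ∀ a, ∑ b, ((s a b : ℤˣ) : ℤ) = if (∀ b, s a b = 1) then (Fintype.card B : ℤ) else 0 := by
      intro a
      split_ifs with h
      · simp [h]
      · push Not at h
        exact sum_units (s a) (hr a) h
    simp only [this]
    rw [Finset.sum_ite, Finset.sum_const_zero, add_zero, Finset.sum_const, nsmul_eq_mul,
      Nat.card_eq_fintype_card, Nat.card_eq_fintype_card, Fintype.card_subtype]
  have h2 : ∑ b, ∑ a, ((s a b : ℤˣ) : ℤ) = Nat.card {b // ∀ a, s a b = 1} * Nat.card A := by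
    have : ∀ b, ∑ a, ((s a b : ℤˣ) : ℤ) = if (∀ a, s a b = 1) then (Fintype.card A : ℤ) else 0 := by
      intro b
      split_ifs with h
      · simp [h]
      · push Not at h
        exact sum_units (fun a => s a b) (fun a a' => hl a a' b) h
    simp only [this]
    rw [Finset.sum_ite, Finset.sum_const_zero, add_zero, Finset.sum_const, nsmul_eq_mul,
      Nat.card_eq_fintype_card, Nat.card_eq_fintype_card, Fintype.card_subtype]
  rw [Finset.sum_comm, h2] at h1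
  have h3 : (Nat.card {a // ∀ b, s a b = 1} * Nat.card B : ℤ) =
      Nat.card A * Nat.card {b // ∀ a, s a b = 1} := by rw [← h1, mul_comm]
  exact_mod_cast h3

end pairing

section

variable {G : Type u} [Group G] [Finite G] {V F : Subgroup G}

/-- `N(V) ∩ N(E) ∩ C(F)` is transitive on `(V / E)#`. -/
theorem HypF.trans (h : HypF V F) {v w : G} (hv : v ∈ V) (hvE : v ∉ NOne.Flat.EE V F) (hw : w ∈ V)
    (hwE : w ∉ NOne.Flat.EE V F) :
    ∃ l ∈ normalizer (V : Set G), l ∈ normalizer (NOne.Flat.EE V F : Set G) ∧ l ∈ centralizer (F : Set G) ∧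
      w⁻¹ * (l * v * l⁻¹) ∈ NOne.Flat.EE V F :=
  h.toHyp.trans h.f0' hv hvE hw hwE

/-- `{g ∈ N(V) : [V, g] ≤ F, [E, g] = 1}` -/
def NG (h : HypF V F) : Subgroup G where
  carrier := {g | g ∈ normalizer (V : Set G) ∧ (∀ v ∈ V, c v g ∈ F) ∧ ∀ e ∈ NOne.Flat.EE V F, c e g = 1}
  one_mem' := ⟨one_mem _, fun v _ => by rw [c_def]; simp, fun e _ => by rw [c_def]; simp⟩
  mul_mem' := by
    rintro a b ⟨ha, ha1, ha2⟩ ⟨hb, hb1, hb2⟩
    refine ⟨mul_mem ha hb, fun v hv => ?_, fun e he => ?_⟩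
    · -- `c v (ab) = c v a * (a (c v b) a⁻¹)`
      have e : c v (a * b) = c v a * (a * c v b * a⁻¹) := by rw [c, c, c]; group
      have hf := hb1 v hv
      have h1 : a * c v b * a⁻¹ = c v b := by
        have h2 := ha2 _ (h.toHyp.F_le_E hf)
        have h3 : c v b * a = a * c v b := by
          rw [c_def (c v b)] at h2
          have := mul_inv_eq_one.1 h2
          calc c v b * a = (c v b * a * (c v b)⁻¹) * c v b := by group
            _ = a * c v b := by rw [this]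
        rw [← h3]; group
      rw [e, h1]
      exact mul_mem (ha1 v hv) hf
    · have e1 : c e (a * b) = c e a * (a * c e b * a⁻¹) := by rw [c, c, c]; group
      rw [e1, ha2 e he, hb2 e he]; group
  inv_mem' := by
    rintro a ⟨ha, ha1, ha2⟩
    refine ⟨inv_mem ha, fun v hv => ?_, fun e he => ?_⟩
    · have e : c v a⁻¹ = a⁻¹ * (c v a)⁻¹ * a := by rw [c, c]; group
      have hf := inv_mem (ha1 v hv)
      have h2 := ha2 _ (h.toHyp.F_le_E hf)
      have h3 : (c v a)⁻¹ * a = a * (c v a)⁻¹ := by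
        rw [c_def ((c v a)⁻¹)] at h2
        have := mul_inv_eq_one.1 h2
        calc (c v a)⁻¹ * a = ((c v a)⁻¹ * a * ((c v a)⁻¹)⁻¹) * (c v a)⁻¹ := by group
          _ = a * (c v a)⁻¹ := by rw [this]
      rw [e, mul_assoc, h3, inv_mul_cancel_left]
      exact hf
    · have e1 : c e a⁻¹ = a⁻¹ * (c e a)⁻¹ * a := by rw [c, c]; group
      rw [e1, ha2 e he]; group

theorem mem_NG (h : HypF V F) {g : G} : g ∈ NG h ↔
    g ∈ normalizer (V : Set G) ∧ (∀ v ∈ V, c v g ∈ F) ∧ ∀ e ∈ NOne.Flat.EE V F, c e g = 1 := Iff.rfl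

theorem NG.comm {h : HypF V F} {a e : G} (ha : a ∈ NG h) (he : e ∈ NOne.Flat.EE V F) : e * a = a * e := by
  have h2 := ha.2.2 e he
  rw [c_def] at h2
  have := mul_inv_eq_one.1 h2
  calc e * a = (e * a * e⁻¹) * e := by group
    _ = a * e := by rw [this]

theorem NG.mul_left {h : HypF V F} {v v' a : G} (ha : a ∈ NG h) (hv : v ∈ V) (hv' : v' ∈ V) :
    c (v * v') a = c v a * c v' a := by
  have h1 : c (v * v') a = v * c v' a * v⁻¹ * c v a := by rw [c, c, c]; group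
  have h2 : v * c v' a = c v' a * v := h.toHyp.V_comm hv (h.toHyp.F_le_V (ha.2.1 v' hv'))
  have h3 : c v a * c v' a = c v' a * c v a :=
    h.toHyp.V_comm (h.toHyp.F_le_V (ha.2.1 v hv)) (h.toHyp.F_le_V (ha.2.1 v' hv'))
  rw [h1, h2, h3]; group

theorem NG.mul_right {h : HypF V F} {v a b : G} (ha : a ∈ NG h) (hb : b ∈ NG h) (hv : v ∈ V) :
    c v (a * b) = c v a * c v b := by
  have e : c v (a * b) = c v a * (a * c v b * a⁻¹) := by rw [c, c, c]; group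
  have h1 : c v b * a = a * c v b := NG.comm ha (h.toHyp.F_le_E (hb.2.1 v hv))
  rw [e, ← h1]; group

/-- `a ↦ [v, a]` -/
def NG.hom (h : HypF V F) (v : V) : NG h →* F where
  toFun a := ⟨c v.1 a.1, a.2.2.1 v.1 v.2⟩
  map_one' := by ext; show c v.1 1 = 1; rw [c]; group
  map_mul' a b := by ext; exact NG.mul_right a.2 b.2 v.2

theorem NG.hom_comm {h : HypF V F} (x y : F) : x * y = y * x :=
  Subtype.ext (h.toHyp.V_comm (h.toHyp.F_le_V x.2) (h.toHyp.F_le_V y.2))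

theorem mem_centralizer_iff_c {g : G} : g ∈ centralizer (V : Set G) ↔ ∀ v ∈ V, c v g = 1 := by
  rw [mem_centralizer_iff]
  refine forall₂_congr fun v _ => ?_
  constructor
  · intro e
    rw [c_def, e]; group
  · intro e
    rw [c_def] at e
    have := mul_inv_eq_one.1 e
    calc v * g = (v * g * v⁻¹) * v := by group
      _ = g * v := by rw [this]

theorem NG.elem (h : HypF V F) : ElemM V (NG h) where
  sq a ha := by
    rw [mem_centralizer_iff_c]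
    intro v hv
    have e := map_pow (NG.hom h ⟨v, hv⟩) ⟨a, ha⟩ 2
    have e2 : c v (a ^ 2) = (c v a) ^ 2 := congrArg Subtype.val e
    rw [e2]
    exact h.toHyp.sq _ (h.toHyp.F_le_V (ha.2.1 v hv))
  comm a ha b hb := by
    rw [mem_centralizer_iff_c]
    intro v hv
    have e : NG.hom h ⟨v, hv⟩ (⟨a, ha⟩ * ⟨b, hb⟩ * ⟨a, ha⟩⁻¹ * ⟨b, hb⟩⁻¹) = 1 := by
      rw [map_mul, map_mul, map_mul, map_inv, map_inv, NG.hom_comm (h := h) (NG.hom h ⟨v, hv⟩ ⟨a, ha⟩)]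
      group
    exact congrArg Subtype.val e

/-- `N(V) ∩ C(V / F) ∩ C(E) = C(V)` -/
theorem NG.le (h : HypF V F) : NG h ≤ centralizer (V : Set G) := by
  classical
  intro a₀ ha₀
  rw [mem_centralizer_iff_c]
  intro v₀ hv₀
  by_contra hne
  have hv₀E : v₀ ∉ NOne.Flat.EE V F := fun hE => hne (ha₀.2.2 v₀ hE)
  obtain ⟨ψ, hψ⟩ := Cfsg.Agent.Omega.All.NOne.exists_char F
    (fun x hx y hy => h.toHyp.V_comm (h.toHyp.F_le_V hx) (h.toHyp.F_le_V hy))
    (fun x hx => h.toHyp.sq' (h.toHyp.F_le_V hx)) (ha₀.2.1 v₀ hv₀) hne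
  have hNG : ∀ a ∈ NG h, ∀ l ∈ normalizer (V : Set G), l ∈ normalizer (NOne.Flat.EE V F : Set G) →
      l ∈ centralizer (F : Set G) → l⁻¹ * a * l ∈ NG h := by
    intro a ha l hlV hlE hlF
    have e : ∀ v : G, c v (l⁻¹ * a * l) = l⁻¹ * c (l * v * l⁻¹) a * l := fun v => by rw [c, c]; group
    refine ⟨mul_mem (mul_mem (inv_mem hlV) ha.1) hlV, fun v hv => ?_, fun v hv => ?_⟩
    · have h1 := ha.2.1 _ ((mem_normalizer_iff.1 hlV v).1 hv)
      have h2 := mem_centralizer_iff.1 hlF _ h1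
      rw [e, mul_assoc, h2, inv_mul_cancel_left]
      exact h1
    · rw [e, ha.2.2 _ ((mem_normalizer_iff.1 hlE v).1 hv)]
      group
  let s : V → NG h → ℤˣ := fun v a => ψ (NG.hom h v a)
  have hl : ∀ a a' b, s (a * a') b = s a b * s a' b := by
    intro a a' b
    have : NG.hom h (a * a') b = NG.hom h a b * NG.hom h a' b := Subtype.ext (NG.mul_left b.2 a.2 a'.2)
    show ψ _ = ψ _ * ψ _
    rw [this, map_mul]
  have hr : ∀ a b b', s a (b * b') = s a b * s a b' := by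
    intro a b b'
    show ψ _ = ψ _ * ψ _
    rw [map_mul, map_mul]
  have hp := pairing_units s hl hr
  have hK : ∀ v : V, (∀ a, s v a = 1) → (v : G) ∈ NOne.Flat.EE V F := by
    intro v hv
    by_contra hvE
    obtain ⟨l, hlV, hlE, hlF, hl1⟩ := h.trans v.2 hvE hv₀ hv₀E
    have hm := hNG a₀ ha₀ l hlV hlE hlF
    have h1 : c v.1 (l⁻¹ * a₀ * l) = c v₀ a₀ := by
      have h2 : c v.1 (l⁻¹ * a₀ * l) = l⁻¹ * c (l * v * l⁻¹) a₀ * l := by rw [c, c]; group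
      have h3 : l * v * l⁻¹ = v₀ * (v₀⁻¹ * (l * v * l⁻¹)) := by group
      have h4 : c (v₀ * (v₀⁻¹ * (l * v * l⁻¹))) a₀ = c v₀ a₀ := by
        rw [NG.mul_left ha₀ hv₀ (NOne.Flat.Hyp.E_le_V hl1), ha₀.2.2 _ hl1, mul_one]
      rw [h2, h3, h4]
      have h5 := mem_centralizer_iff.1 hlF _ (ha₀.2.1 v₀ hv₀)
      rw [mul_assoc, h5, inv_mul_cancel_left]
    have h2 := hv ⟨_, hm⟩
    have h3 : NG.hom h v ⟨_, hm⟩ = ⟨c v₀ a₀, ha₀.2.1 v₀ hv₀⟩ := Subtype.ext h1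
    have h4 : ψ (NG.hom h v ⟨_, hm⟩) = 1 := h2
    rw [h3, hψ] at h4
    exact absurd h4 (by decide)
  refine h.noffM (NG h) (fun a ha => ha.1) ⟨NG.elem h, fun hle => hne (mem_centralizer_iff_c.1 (hle ha₀) v₀ hv₀), ?_⟩
  have h1 : Nat.card {a : V // ∀ b, s a b = 1} ≤ Nat.card ↥(V ⊓ centralizer (NG h : Set G)) := by
    refine Nat.card_le_card_of_injective (fun v => ⟨v.1.1, v.1.2, ?_⟩) ?_
    · exact mem_centralizer_iff.2 fun a ha => (NG.comm ha (hK v.1 v.2)).symm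
    · intro v w hvw
      exact Subtype.ext (Subtype.ext (congrArg (fun x => x.1) hvw))
  have h2 : Nat.card ↥(NG h ⊓ centralizer (V : Set G)) ≤ Nat.card {b : NG h // ∀ a, s a b = 1} := by
    refine Nat.card_le_card_of_injective (fun b => ⟨⟨b.1, b.2.1⟩, fun v => ?_⟩) ?_
    · have : NG.hom h v ⟨b.1, b.2.1⟩ = 1 := Subtype.ext (mem_centralizer_iff_c.1 b.2.2 v.1 v.2)
      show ψ _ = 1
      rw [this, map_one]
    · intro v w hvw
      exact Subtype.ext (congrArg (fun x => x.1.1) hvw)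
  calc Nat.card V * Nat.card ↥(NG h ⊓ centralizer (V : Set G))
      ≤ Nat.card V * Nat.card {b : NG h // ∀ a, s a b = 1} := Nat.mul_le_mul_left _ h2
    _ = Nat.card {a : V // ∀ b, s a b = 1} * Nat.card (NG h) := hp.symm
    _ ≤ Nat.card ↥(V ⊓ centralizer (NG h : Set G)) * Nat.card (NG h) := Nat.mul_le_mul_right _ h1
    _ = Nat.card (NG h) * Nat.card ↥(V ⊓ centralizer (NG h : Set G)) := mul_comm _ _

theorem HypF.nn (h : HypF V F) {g : G} (hg : g ∈ normalizer (V : Set G)) (h1 : ∀ v ∈ V, c v g ∈ F)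
    (h2 : ∀ e ∈ NOne.Flat.EE V F, c e g = 1) : g ∈ centralizer (V : Set G) :=
  NG.le h ⟨hg, h1, h2⟩

theorem conj_eq_c (h : HypF V F) {v : G} (hv : v ∈ V) (a : G) : a * v * a⁻¹ = v * c v a := by
  have h1 : a * v⁻¹ * a⁻¹ = v⁻¹ * c v a := by rw [c]; group
  rwa [h.toHyp.inv hv] at h1

/-- the stabiliser of the chain `V > E > F > 1` -/
def TT (h : HypF V F) : Subgroup G where
  carrier := {g | g ∈ normalizer (V : Set G) ∧ (∀ v ∈ V, c v g ∈ NOne.Flat.EE V F) ∧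
    (∀ e ∈ NOne.Flat.EE V F, c e g ∈ F) ∧ ∀ f ∈ F, c f g = 1}
  one_mem' := ⟨one_mem _, fun v _ => by rw [c_def]; simp, fun e _ => by rw [c_def]; simp,
    fun e _ => by rw [c_def]; simp⟩
  mul_mem' := by
    rintro a b ⟨ha, ha1, ha2, ha3⟩ ⟨hb, hb1, hb2, hb3⟩
    have e : ∀ v, c v (a * b) = c v a * (a * c v b * a⁻¹) := fun v => by rw [c, c, c]; group
    refine ⟨mul_mem ha hb, fun v hv => ?_, fun v hv => ?_, fun v hv => ?_⟩
    · rw [e, conj_eq_c h (NOne.Flat.Hyp.E_le_V (hb1 v hv))]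
      exact mul_mem (ha1 v hv) (mul_mem (hb1 v hv) (h.toHyp.F_le_E (ha2 _ (hb1 v hv))))
    · rw [e, conj_eq_c h (h.toHyp.F_le_V (hb2 v hv)), ha3 _ (hb2 v hv), mul_one]
      exact mul_mem (ha2 v hv) (hb2 v hv)
    · rw [e, ha3 v hv, hb3 v hv]; group
  inv_mem' := by
    rintro a ⟨ha, ha1, ha2, ha3⟩
    have e : ∀ v, c v a⁻¹ = a⁻¹ * (c v a)⁻¹ * a := fun v => by rw [c, c]; group
    have hF : ∀ f ∈ F, a⁻¹ * f * a = f := fun f hf => by
      have h1 := conj_eq_c h (h.toHyp.F_le_V hf) a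
      rw [ha3 f hf, mul_one] at h1
      calc a⁻¹ * f * a = a⁻¹ * (a * f * a⁻¹) * a := by rw [h1]
        _ = f := by group
    have hE : ∀ f ∈ NOne.Flat.EE V F, a⁻¹ * f * a ∈ NOne.Flat.EE V F := fun f hf => by
      have h1 := conj_eq_c h (NOne.Flat.Hyp.E_le_V hf) a
      have h2 : a⁻¹ * f * a * (a⁻¹ * c f a * a) = f := by
        calc a⁻¹ * f * a * (a⁻¹ * c f a * a) = a⁻¹ * (f * c f a) * a := by group
          _ = f := by rw [← h1]; group
      rw [hF _ (ha2 f hf)] at h2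
      have h3 : a⁻¹ * f * a = f * (c f a)⁻¹ := eq_mul_inv_of_mul_eq h2
      rw [h3]
      exact mul_mem hf (inv_mem (h.toHyp.F_le_E (ha2 f hf)))
    refine ⟨inv_mem ha, fun v hv => ?_, fun v hv => ?_, fun v hv => ?_⟩
    · rw [e]; exact hE _ (inv_mem (ha1 v hv))
    · rw [e, hF _ (inv_mem (ha2 v hv))]; exact inv_mem (ha2 v hv)
    · rw [e, ha3 v hv]; group

theorem W_le_TT (h : HypF V F) : NOne.Flat.WW V F ≤ TT h := fun s hs =>
  ⟨h.toHyp.W_norm_V hs, fun _ hv => h.toHyp.comm_VW hv hs, fun _ he => h.toHyp.comm_EW he hs,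
    fun _ hf => NOne.Flat.Hyp.c_F hf hs⟩

theorem TT.conj_mem (h : HypF V F) {g e : G} (hg : g ∈ TT h) (he : e ∈ NOne.Flat.EE V F) :
    g * e * g⁻¹ ∈ NOne.Flat.EE V F := by
  rw [conj_eq_c h (NOne.Flat.Hyp.E_le_V he) g]
  exact mul_mem he (h.toHyp.F_le_E (hg.2.2.1 _ he))

theorem TT.two (h : HypF V F) {g s v : G} (hg : g ∈ TT h) (hs : s ∈ TT h) (hv : v ∈ V) :
    s * (g * v * g⁻¹) * s⁻¹ = v * c v g * c v s * c (c v g) s := by
  have hp := hg.2.1 v hv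
  have hq := hs.2.1 v hv
  rw [conj_eq_c h hv g]
  have e : s * (v * c v g) * s⁻¹ = s * v * s⁻¹ * (s * c v g * s⁻¹) := by group
  rw [e, conj_eq_c h hv s, conj_eq_c h (NOne.Flat.Hyp.E_le_V hp) s]
  have h1 : c v s * c v g = c v g * c v s :=
    h.toHyp.V_comm (NOne.Flat.Hyp.E_le_V hq) (NOne.Flat.Hyp.E_le_V hp)
  calc v * c v s * (c v g * c (c v g) s) = v * (c v s * c v g) * c (c v g) s := by group
    _ = _ := by rw [h1]; group

theorem TT.two' (h : HypF V F) {g s v : G} (hg : g ∈ TT h) (hs : s ∈ TT h) (hv : v ∈ V) :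
    (s * (g * v * g⁻¹) * s⁻¹)⁻¹ * (g * (s * v * s⁻¹) * g⁻¹) = (c (c v g) s)⁻¹ * c (c v s) g := by
  have hp := hg.2.1 v hv
  have hq := hs.2.1 v hv
  have h1 : c v s * c v g = c v g * c v s :=
    h.toHyp.V_comm (NOne.Flat.Hyp.E_le_V hq) (NOne.Flat.Hyp.E_le_V hp)
  rw [TT.two h hg hs hv, TT.two h hs hg hv]
  have e : v * c v s * c v g * c (c v s) g = v * (c v s * c v g) * c (c v s) g := by group
  rw [e, h1]
  group

/-- the commutator of two elements of the stabiliser of the chain centralises `V` -/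
theorem TT.comm (h : HypF V F) {g s : G} (hg : g ∈ TT h) (hs : s ∈ TT h) :
    c g s ∈ centralizer (V : Set G) := by
  have hk : ∀ v ∈ V, ∃ v' ∈ V, v = s * (g * v' * g⁻¹) * s⁻¹ := fun v hv => by
    refine ⟨(s * g)⁻¹ * v * (s * g), (mem_normalizer_iff''.1 (mul_mem hs.1 hg.1) v).1 hv, by group⟩
  have hc : ∀ v' : G, c (s * (g * v' * g⁻¹) * s⁻¹) (c g s) =
      (s * (g * v' * g⁻¹) * s⁻¹) * (g * (s * v' * s⁻¹) * g⁻¹)⁻¹ := fun v' => by
    rw [c, c]; group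
  have hc2 : ∀ v' ∈ V, c (s * (g * v' * g⁻¹) * s⁻¹) (c g s) =
      ((s * (g * v' * g⁻¹) * s⁻¹)⁻¹ * (g * (s * v' * s⁻¹) * g⁻¹))⁻¹ := fun v' hv' => by
    have hA : s * (g * v' * g⁻¹) * s⁻¹ ∈ V :=
      (mem_normalizer_iff.1 hs.1 _).1 ((mem_normalizer_iff.1 hg.1 _).1 hv')
    have hB : g * (s * v' * s⁻¹) * g⁻¹ ∈ V :=
      (mem_normalizer_iff.1 hg.1 _).1 ((mem_normalizer_iff.1 hs.1 _).1 hv')
    rw [hc, h.toHyp.V_comm hA (inv_mem hB)]
    group
  refine h.nn ?_ ?_ ?_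
  · rw [c]
    exact mul_mem (mul_mem (mul_mem hg.1 hs.1) (inv_mem hg.1)) (inv_mem hs.1)
  · intro v hv
    obtain ⟨v', hv', rfl⟩ := hk v hv
    rw [hc2 v' hv', TT.two' h hg hs hv']
    exact inv_mem (mul_mem (inv_mem (hs.2.2.1 _ (hg.2.1 _ hv'))) (hg.2.2.1 _ (hs.2.1 _ hv')))
  · intro e he
    have h1 := TT.conj_mem h (inv_mem (mul_mem hs hg)) he
    have h2 : e = s * (g * ((s * g)⁻¹ * e * (s * g)⁻¹⁻¹) * g⁻¹) * s⁻¹ := by group
    rw [h2, hc2 _ (NOne.Flat.Hyp.E_le_V h1), TT.two' h hg hs (NOne.Flat.Hyp.E_le_V h1),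
      hg.2.2.2 _ (hs.2.2.1 _ h1), hs.2.2.2 _ (hg.2.2.1 _ h1)]
    group

theorem TT.symm (h : HypF V F) {g s v : G} (hg : g ∈ TT h) (hs : s ∈ TT h) (hv : v ∈ V) :
    c (c v g) s = c (c v s) g := by
  have h1 := TT.two' h hg hs hv
  have h2 := mem_centralizer_iff.1 (TT.comm h hg hs) v hv
  -- `g s v (g s)⁻¹ = s g v (s g)⁻¹`
  have hA : s * (g * v * g⁻¹) * s⁻¹ ∈ V :=
    (mem_normalizer_iff.1 hs.1 _).1 ((mem_normalizer_iff.1 hg.1 _).1 hv)
  have h3 := mem_centralizer_iff.1 (TT.comm h hg hs) _ hA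
  have h4 : g * (s * v * s⁻¹) * g⁻¹ = c g s * (s * (g * v * g⁻¹) * s⁻¹) * (c g s)⁻¹ := by
    rw [c]; group
  have h5 : g * (s * v * s⁻¹) * g⁻¹ = s * (g * v * g⁻¹) * s⁻¹ := by
    rw [h4, ← h3, mul_inv_cancel_right]
  rw [h5, inv_mul_cancel] at h1
  exact (inv_mul_eq_one.1 h1.symm)

/-- **(R+)** : the stabiliser of the chain `V > E > F > 1` is `W C(V)`. -/
theorem TT.le (h : HypF V F) : TT h ≤ NOne.Flat.WW V F ⊔ centralizer (V : Set G) := by
  intro g hg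
  obtain ⟨w, hw, hwE⟩ := h.toHyp.exists_not_mem
  obtain ⟨s₀, hs₀, hc₀⟩ := h.toHyp.surj hw hwE (hg.2.1 w hw)
  have hs₀T := W_le_TT h hs₀
  have hr : s₀⁻¹ * g ∈ TT h := mul_mem (inv_mem hs₀T) hg
  set r := s₀⁻¹ * g with hrdef
  have hgr : g = s₀ * r := by rw [hrdef]; group
  have hWF : ∀ s ∈ NOne.Flat.WW V F, ∀ f ∈ F, c f s = 1 := fun s hs f hf => NOne.Flat.Hyp.c_F hf hs
  -- `[w, r] ∈ F`
  have h1 : c w r ∈ F := by
    have e : c w g = c w s₀ * (s₀ * c w r * s₀⁻¹) := by rw [hgr, c, c, c]; group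
    rw [conj_eq_c h (NOne.Flat.Hyp.E_le_V (hr.2.1 w hw))] at e
    have h2 : c w r * c (c w r) s₀ ∈ F := by
      have h3 : c w r * c (c w r) s₀ = (c w s₀)⁻¹ * c w g := by rw [e]; group
      have h4 : (c w s₀)⁻¹ * c w g = (c w s₀ * (c w g)⁻¹)⁻¹ := by
        rw [mul_inv_rev, inv_inv]
        exact h.toHyp.V_comm (inv_mem (h.toHyp.c_memV hw hs₀)) (NOne.Flat.Hyp.E_le_V (hg.2.1 w hw))
      rw [h3, h4]
      exact inv_mem hc₀
    exact (mul_mem_cancel_right (hs₀T.2.2.1 _ (hr.2.1 w hw))).1 h2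
  -- `r` centralises `E`
  have h2 : ∀ e ∈ NOne.Flat.EE V F, c e r = 1 := by
    intro e he
    obtain ⟨s, hs, hc⟩ := h.toHyp.surj hw hwE he
    have h3 : c (c w s) r = 1 := by
      rw [← TT.symm h hr (W_le_TT h hs) hw]
      exact hWF s hs _ h1
    have h4 : c w s * r = r * c w s := by
      have := mul_inv_eq_one.1 (show c w s * r * (c w s)⁻¹ * r⁻¹ = 1 from h3)
      calc c w s * r = (c w s * r * (c w s)⁻¹) * c w s := by group
        _ = _ := by rw [this]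
    have h5 : (c w s * e⁻¹) * r = r * (c w s * e⁻¹) := by
      have := mul_inv_eq_one.1 (show (c w s * e⁻¹) * r * (c w s * e⁻¹)⁻¹ * r⁻¹ = 1 from hr.2.2.2 _ hc)
      calc (c w s * e⁻¹) * r = ((c w s * e⁻¹) * r * (c w s * e⁻¹)⁻¹) * (c w s * e⁻¹) := by group
        _ = _ := by rw [this]
    have h6 : Commute e r := by
      have e1 : e = (c w s * e⁻¹)⁻¹ * c w s := by group
      rw [e1]
      exact Commute.mul_left (Commute.inv_left h5) h4
    show e * r * e⁻¹ * r⁻¹ = 1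
    rw [h6.eq]; group
  -- `[V, r] ≤ F`
  have h3 : ∀ v ∈ V, c v r ∈ F := by
    intro v hv
    have h4 : c v r ∈ NOne.Flat.EE V F ⊓ centralizer (NOne.Flat.WW V F : Set G) := by
      refine ⟨hr.2.1 v hv, mem_centralizer_iff.2 fun s hs => ?_⟩
      have h5 : c (c v r) s = 1 := by
        rw [TT.symm h hr (W_le_TT h hs) hv]
        exact h2 _ (h.toHyp.comm_VW hv hs)
      have := mul_inv_eq_one.1 (show c v r * s * (c v r)⁻¹ * s⁻¹ = 1 from h5)
      calc s * c v r = (c v r * s * (c v r)⁻¹) * c v r := by rw [this]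
        _ = _ := by group
    rwa [h.toHyp.cent_EW] at h4
  rw [hgr]
  exact mul_mem (mem_sup_left hs₀) (mem_sup_right (h.nn hr.1 h3 h2))

/-- **FIELD-3c** -/
theorem HypF.rplus (h : HypF V F) {g : G} (hg : g ∈ normalizer (V : Set G))
    (h1 : ∀ v ∈ V, c v g ∈ NOne.Flat.EE V F) (h2 : ∀ e ∈ NOne.Flat.EE V F, c e g ∈ F)
    (h3 : ∀ f ∈ F, c f g = 1) : g ∈ NOne.Flat.WW V F ⊔ centralizer (V : Set G) :=
  TT.le h ⟨hg, h1, h2, h3⟩

end

/-- **FIELD-3c** : (R+) of #16754 -/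
theorem rPlus : RPlus.{u} := fun _ _ _ _ _ h _ hg h1 h2 h3 => h.rplus hg h1 h2 h3

/-- **FIELD-3b** -/
theorem nNOne : NNOne.{u} := by
  intro G _ _ V F h
  refine ⟨fun v hv hvE w hw hwE => ?_, fun g hg h1 h2 => h.nn hg h1 h2⟩
  obtain ⟨l, hlV, hlE, hlF, hl⟩ := h.trans hv hvE hw hwE
  refine ⟨l, ⟨hlF, hlV⟩, ?_⟩
  have h1 := inv_mem hl
  rwa [mul_inv_rev, inv_inv] at h1

end Cfsg.Agent.Omega.NO1.Field
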