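import Cfsg.Agent.Mrg.Omega.NOne.Flat.Conj
import Cfsg.Agent.Mrg.Omega.NOne.Flat.Off

section


/-!
# THEOREM FIELD (#15909) over `Spr`: odd products, the SL₂ type

`S : Spr B A`, `L = A false ⊔ A true`.

* `Spr.map_eq` : `t ∈ A i`, `u ∈ A j`, `y ∈ L`, `t` and `u^y` commute: `y (B j) = B i`;
* `Spr.odd'`, `Spr.odd` : `t u^y` has odd order if `y (B j) ≠ B i`;
* `Spr.exists_conj` : `t ∈ A i` and `u ∈ A j` (`i ≠ j`) are conjugate in `L`;
* `SL2T B A` : the SL₂ type: (O3) and `dcw`;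
* `SL2T.jj` : the set `J` of the `t u t` (`(t u)³ = 1`) satisfies `J J J ⊆ J`.
-/

set_option autoImplicit false

namespace Cfsg.Agent.Omega.NO1.Field

open Subgroup Cfsg.Agent.Omega.NOne.Flat
open Cfsg.Agent.Omega.NOne.Flat.TI (exists_invol mul_pow_of_inv)

section spr

variable {M : Type*} [Group M] {B : Bool → Subgroup M} {A : Bool → Subgroup (MulAut M)} (S : Spr B A)

/-- the image of `B` under `y` -/
theorem mem_map_iff {y : MulAut M} {C : Subgroup M} {m : M} :
    m ∈ C.map (y : M ≃* M).toMonoidHom ↔ y⁻¹ m ∈ C := by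
  constructor
  · rintro ⟨c, hc, rfl⟩
    change y⁻¹ (y c) ∈ C
    rwa [← MulAut.mul_apply, inv_mul_cancel, MulAut.one_apply]
  · intro h
    refine ⟨y⁻¹ m, h, ?_⟩
    change y (y⁻¹ m) = m
    rw [← MulAut.mul_apply, mul_inv_cancel, MulAut.one_apply]

theorem map_one' (C : Subgroup M) : C.map ((1 : MulAut M) : M ≃* M).toMonoidHom = C := by
  ext m
  rw [mem_map_iff, inv_one, MulAut.one_apply]

theorem map_mul' (y z : MulAut M) (C : Subgroup M) :
    C.map ((y * z : MulAut M) : M ≃* M).toMonoidHom = (C.map (z : M ≃* M).toMonoidHom).map (y : M ≃* M).toMonoidHom := by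
  ext m
  rw [mem_map_iff, mem_map_iff, mem_map_iff, mul_inv_rev, MulAut.mul_apply]

theorem map_inv' {y : MulAut M} {C D : Subgroup M} (h : C.map (y : M ≃* M).toMonoidHom = D) :
    D.map ((y⁻¹ : MulAut M) : M ≃* M).toMonoidHom = C := by
  rw [← h, ← map_mul', inv_mul_cancel, map_one']

theorem mem_conj_iff {y a : MulAut M} {C : Subgroup (MulAut M)} :
    a ∈ C.map (MulAut.conj y).toMonoidHom ↔ y⁻¹ * a * y ∈ C := by
  constructor
  · rintro ⟨c, hc, rfl⟩
    change y⁻¹ * (y * c * y⁻¹) * y ∈ C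
    have e : y⁻¹ * (y * c * y⁻¹) * y = c := by group
    rwa [e]
  · intro h
    refine ⟨y⁻¹ * a * y, h, ?_⟩
    change y * (y⁻¹ * a * y) * y⁻¹ = a
    group

include S

omit S in
theorem mem_L {i : Bool} {a : MulAut M} (ha : a ∈ A i) : a ∈ A false ⊔ A true := by
  cases i
  · exact mem_sup_left ha
  · exact mem_sup_right ha

theorem Spr.A_inv {i : Bool} {a : MulAut M} (ha : a ∈ A i) : a⁻¹ = a := inv_eq_of_mul_eq_one_left (S.Asq i a ha)

theorem Spr.apply_apply {i : Bool} {a : MulAut M} (ha : a ∈ A i) (m : M) : a (a m) = m := by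
  rw [← MulAut.mul_apply, S.Asq i a ha, MulAut.one_apply]

theorem Spr.m_inv (m : M) : m⁻¹ = m := inv_eq_of_mul_eq_one_left (S.sq m)

/-- `C_M(t) = B i` -/
theorem Spr.fix_iff {i : Bool} {a : MulAut M} (ha : a ∈ A i) (h1 : a ≠ 1) {m : M} : a m = m ↔ m ∈ B i :=
  ⟨S.free i a ha h1 m, S.fix i a ha m⟩

theorem Spr.inf_eq {i j : Bool} (hij : i ≠ j) : B i ⊓ B j = ⊥ := by
  cases i <;> cases j
  · exact absurd rfl hij
  · exact S.disj
  · rw [inf_comm]; exact S.disj
  · exact absurd rfl hij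

theorem Spr.eq_one {i j : Bool} (hij : i ≠ j) {m : M} (h1 : m ∈ B i) (h2 : m ∈ B j) : m = 1 := by
  have h3 : m ∈ B i ⊓ B j := ⟨h1, h2⟩
  rw [Spr.inf_eq S hij] at h3
  exact mem_bot.1 h3

/-- an automorphism trivial on `B i` and `B j`, `i ≠ j`, is trivial. -/
theorem Spr.ext_A {i j : Bool} (hij : i ≠ j) {a b : MulAut M} (h1 : ∀ m ∈ B i, a m = b m)
    (h2 : ∀ m ∈ B j, a m = b m) : a = b := by
  ext m
  have hm : m ∈ B i ⊔ B j := by
    have h3 : B i ⊔ B j = ⊤ := by
      cases i <;> cases j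
      · exact absurd rfl hij
      · exact S.sup
      · rw [sup_comm]; exact S.sup
      · exact absurd rfl hij
    rw [h3]
    trivial
  have hcomm : B j ≤ normalizer (B i : Set M) := by
    intro x _
    rw [mem_normalizer_iff]
    intro y
    rw [S.comm x y, mul_inv_cancel_right]
  obtain ⟨x, hx, y, hy, rfl⟩ := mem_sup_of_normal_right' hcomm hm
  rw [map_mul, map_mul, h1 x hx, h2 y hy]
where
  mem_sup_of_normal_right' {i j : Bool} (_ : B j ≤ normalizer (B i : Set M)) {m : M} (hm : m ∈ B i ⊔ B j) :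
      ∃ x ∈ B i, ∃ y ∈ B j, x * y = m := by
    have h1 : ∀ a ∈ B i, ∀ b ∈ B j, a * b = b * a := fun a _ b _ => S.comm a b
    let K : Subgroup M :=
      { carrier := {m | ∃ x ∈ B i, ∃ y ∈ B j, x * y = m}
        one_mem' := ⟨1, one_mem _, 1, one_mem _, mul_one 1⟩
        mul_mem' := by
          rintro _ _ ⟨x, hx, y, hy, rfl⟩ ⟨x', hx', y', hy', rfl⟩
          refine ⟨x * x', mul_mem hx hx', y * y', mul_mem hy hy', ?_⟩
          calc x * x' * (y * y') = x * (x' * y) * y' := by group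
            _ = x * (y * x') * y' := by rw [S.comm x' y]
            _ = x * y * (x' * y') := by group
        inv_mem' := by
          rintro _ ⟨x, hx, y, hy, rfl⟩
          refine ⟨x⁻¹, inv_mem hx, y⁻¹, inv_mem hy, ?_⟩
          rw [mul_inv_rev, S.comm] }
    have h2 : B i ⊔ B j ≤ K := sup_le (fun x hx => ⟨x, hx, 1, one_mem _, mul_one x⟩)
      (fun y hy => ⟨1, one_mem _, y, hy, one_mul y⟩)
    exact h2 hm

/-- `t ∈ A i` and `u^y`, `u ∈ A j`, commute: `y (B j) = B i`. -/
theorem Spr.map_eq {i j : Bool} {t u y : MulAut M} (ht : t ∈ A i) (ht1 : t ≠ 1) (hu : u ∈ A j)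
    (hu1 : u ≠ 1) (hy : y ∈ A false ⊔ A true) (hc : t * (y * u * y⁻¹) = y * u * y⁻¹ * t) :
    (B j).map (y : M ≃* M).toMonoidHom = B i := by
  set s := y * u * y⁻¹ with hs
  have hss : s * s = 1 := by
    have h1 := S.Asq j u hu
    calc s * s = y * (u * u) * y⁻¹ := by rw [hs]; group
      _ = 1 := by rw [h1]; group
  -- `s` maps `B i` to itself
  have hsB : ∀ m ∈ B i, s m ∈ B i := by
    intro m hm
    refine S.free i t ht ht1 _ ?_
    rw [← MulAut.mul_apply, hc, MulAut.mul_apply, S.fix i t ht m hm]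
  -- a fixed point
  obtain ⟨n, hn, hn1, hsn⟩ : ∃ n ∈ B i, n ≠ 1 ∧ s n = n := by
    obtain ⟨m, hm, hm1⟩ := (B i).bot_or_exists_ne_one.resolve_left (S.ne i)
    by_cases h1 : s m = m
    · exact ⟨m, hm, hm1, h1⟩
    · refine ⟨m * s m, mul_mem hm (hsB m hm), fun h2 => h1 ?_, ?_⟩
      · have h3 := eq_inv_of_mul_eq_one_right h2
        rw [h3, Spr.m_inv S]
      · rw [map_mul, ← MulAut.mul_apply, hss, MulAut.one_apply, S.comm]
  -- `n ∈ y (B j)`
  have h1 : n ∈ (B j).map (y : M ≃* M).toMonoidHom := by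
    rw [mem_map_iff]
    refine S.free j u hu hu1 _ ?_
    have h2 : u * y⁻¹ = y⁻¹ * s := by rw [hs]; group
    rw [← MulAut.mul_apply, h2, MulAut.mul_apply, hsn]
  rcases S.spread j i y hy with h2 | h2
  · exact h2
  · exfalso
    have h3 : n ∈ (B j).map (y : M ≃* M).toMonoidHom ⊓ B i := ⟨h1, hn⟩
    rw [h2] at h3
    exact hn1 (mem_bot.1 h3)

/-- **odd order**, general form -/
theorem Spr.odd' [Finite M] {i j : Bool} {t u y : MulAut M} (ht : t ∈ A i) (ht1 : t ≠ 1) (hu : u ∈ A j)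
    (hu1 : u ≠ 1) (hy : y ∈ A false ⊔ A true) (hne : (B j).map (y : M ≃* M).toMonoidHom ≠ B i) :
    Odd (orderOf (t * (y * u * y⁻¹))) := by
  have : Finite (MulAut M) := Finite.of_injective (fun a : MulAut M => (a : M → M)) DFunLike.coe_injective
  set s := y * u * y⁻¹ with hs
  have hss : s * s = 1 := by
    have h1 := S.Asq j u hu
    calc s * s = y * (u * u) * y⁻¹ := by rw [hs]; group
      _ = 1 := by rw [h1]; group
  have htt := S.Asq i t ht
  have hsL : s ∈ A false ⊔ A true := mul_mem (mul_mem hy (mem_L hu)) (inv_mem hy)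
  have htL := mem_L ht
  rw [← Nat.not_even_iff_odd]
  intro he
  obtain ⟨z, hz, hz1, htz, hsz, g, hg, hgz⟩ := exists_invol htt hss he
  have hgL : g ∈ A false ⊔ A true := (zpowers_le.2 (mul_mem htL hsL)) hg
  -- `t z ∈ A i`
  have hcom : t * (t * z) = t * z * t := by
    calc t * (t * z) = t * (z * t) := by rw [htz]
      _ = t * z * t := by group
  have h1 : t * z ∈ A i := by
    rcases hgz with hgz | hgz
    · have h2 : (B i).map (g : M ≃* M).toMonoidHom = B i := by
        refine Spr.map_eq S ht ht1 ht ht1 hgL ?_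
        rw [← hgz]
        exact hcom
      have h3 := S.stab i i g hgL h2
      rw [← h3, mem_conj_iff, hgz]
      have e : g⁻¹ * (g * t * g⁻¹) * g = t := by group
      rwa [e]
    · have e1 : g * s * g⁻¹ = g * y * u * (g * y)⁻¹ := by rw [hs]; group
      have h2 : (B j).map ((g * y : MulAut M) : M ≃* M).toMonoidHom = B i := by
        refine Spr.map_eq S ht ht1 hu hu1 (mul_mem hgL hy) ?_
        rw [← e1, ← hgz]
        exact hcom
      have h3 := S.stab j i (g * y) (mul_mem hgL hy) h2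
      rw [← h3, mem_conj_iff, hgz, e1]
      have e : (g * y)⁻¹ * (g * y * u * (g * y)⁻¹) * (g * y) = u := by group
      rwa [e]
  have hzA : z ∈ A i := (mul_mem_cancel_left ht).1 h1
  exact hne (Spr.map_eq S hzA hz1 hu hu1 hy hsz.symm)

theorem Spr.B_ne {i j : Bool} (hij : i ≠ j) : B i ≠ B j := by
  intro h1
  obtain ⟨m, hm, hm1⟩ := (B i).bot_or_exists_ne_one.resolve_left (S.ne i)
  exact hm1 (Spr.eq_one S hij hm (h1 ▸ hm))

/-- **odd order** -/
theorem Spr.odd [Finite M] {i j : Bool} (hij : i ≠ j) {t u : MulAut M} (ht : t ∈ A i) (ht1 : t ≠ 1)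
    (hu : u ∈ A j) (hu1 : u ≠ 1) : Odd (orderOf (t * u)) := by
  have h1 := Spr.odd' S ht ht1 hu hu1 (one_mem _) (by
    rw [map_one']
    exact (Spr.B_ne S hij).symm)
  rwa [one_mul, inv_one, mul_one] at h1

omit S in
/-- two involutions with odd product are conjugate -/
theorem exists_conj_of_odd {N : Type*} [Group N] {t u : N} (ht : t * t = 1) (hu : u * u = 1)
    (ho : Odd (orderOf (t * u))) : ∃ m : ℕ, (t * u) ^ m * t * ((t * u) ^ m)⁻¹ = u := by
  obtain ⟨m, hm⟩ := ho
  refine ⟨m, ?_⟩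
  set k := t * u with hk
  have hti : t⁻¹ = t := inv_eq_of_mul_eq_one_left ht
  have hui : u⁻¹ = u := inv_eq_of_mul_eq_one_left hu
  have htk : t * k * t = k⁻¹ := by
    rw [hk, mul_inv_rev, hti, hui, ← mul_assoc, ht, one_mul]
  have h1 := mul_pow_of_inv ht htk m
  have h2 : k ^ (2 * m + 1) = 1 := by rw [← hm, pow_orderOf_eq_one]
  have h3 : k ^ m * k ^ m * k = 1 := by
    rw [← pow_add, ← two_mul, ← pow_succ, h2]
  -- `k^m t k^-m = k^m k^m t`
  have h4 : t * (k ^ m)⁻¹ = k ^ m * t := by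
    have h5 : t * (t * k ^ m) * t = t * ((k ^ m)⁻¹ * t) * t := by rw [h1]
    have e1 : t * (t * k ^ m) * t = k ^ m * t := by
      rw [← mul_assoc, ht, one_mul]
    have e2 : t * ((k ^ m)⁻¹ * t) * t = t * (k ^ m)⁻¹ := by
      rw [mul_assoc, mul_assoc, ht, mul_one]
    rw [e1, e2] at h5
    exact h5.symm
  rw [mul_assoc, h4, ← mul_assoc]
  have h5 : k ^ m * k ^ m = k⁻¹ := eq_inv_of_mul_eq_one_left h3
  rw [h5, hk, mul_inv_rev, hti, hui, mul_assoc, ht, mul_one]

/-- **`t ∈ A i` and `u ∈ A j` are conjugate.** -/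
theorem Spr.exists_conj [Finite M] {i j : Bool} (hij : i ≠ j) {t u : MulAut M} (ht : t ∈ A i) (ht1 : t ≠ 1)
    (hu : u ∈ A j) (hu1 : u ≠ 1) : ∃ y ∈ A false ⊔ A true, y * t * y⁻¹ = u := by
  obtain ⟨m, hm⟩ := exists_conj_of_odd (S.Asq i t ht) (S.Asq j u hu) (Spr.odd S hij ht ht1 hu hu1)
  exact ⟨_, pow_mem (mul_mem (mem_L ht) (mem_L hu)) m, hm⟩

/-- `t ∈ A i`, `t (B j) = B j`, `i ≠ j`: `t = 1` -/
theorem Spr.eq_one_of_map {i j : Bool} (hij : i ≠ j) {t : MulAut M} (ht : t ∈ A i)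
    (h : (B j).map (t : M ≃* M).toMonoidHom = B j) : t = 1 := by
  refine Spr.ext_A S hij (fun m hm => S.fix i t ht m hm) fun m hm => ?_
  have h1 : t m ∈ B j := by
    rw [← h, mem_map_iff, Spr.A_inv S ht, Spr.apply_apply S ht]
    exact hm
  have h2 : t m * m⁻¹ = 1 := Spr.eq_one S hij (S.into i t ht m) (mul_mem h1 (inv_mem hm))
  rw [MulAut.one_apply]
  exact mul_inv_eq_one.1 h2

end spr

/-! ### the SL₂ type -/

/-- **The SL₂ type.**  `dcw` : elements of the two-point stabiliser inverted by the same `s` commute. -/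
structure SL2T {M : Type*} [Group M] (B : Bool → Subgroup M) (A : Bool → Subgroup (MulAut M)) : Prop where
  o3 : ∀ t ∈ A false, t ≠ 1 → ∃ u ∈ A true, (t * u) ^ 3 = 1
  dcw : ∀ s ∈ A false ⊔ A true, s * s = 1 → (B true).map (s : M ≃* M).toMonoidHom = B false →
    (B false).map (s : M ≃* M).toMonoidHom = B true →
    ∀ y ∈ A false ⊔ A true, ∀ z ∈ A false ⊔ A true, (∀ i, (B i).map (y : M ≃* M).toMonoidHom = B i) →
    (∀ i, (B i).map (z : M ≃* M).toMonoidHom = B i) → s * y * s = y⁻¹ → s * z * s = z⁻¹ → y * z = z * y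

section pair

variable {M : Type*} [Group M] {B : Bool → Subgroup M} {A : Bool → Subgroup (MulAut M)} (S : Spr B A)
include S

/-- the pair `t ∈ A i`, `u ∈ A j`, `(t u)³ = 1`: `t u t = u t u` -/
theorem Spr.braid {i j : Bool} {t u : MulAut M} (ht : t ∈ A i) (hu : u ∈ A j) (h3 : (t * u) ^ 3 = 1) :
    t * u * t = u * t * u := by
  have h1 : t * u * t * (u * t * u) = 1 := by
    rw [← h3]
    rw [pow_succ, pow_two]
    group
  have h2 := eq_inv_of_mul_eq_one_left h1
  rw [h2, mul_inv_rev, mul_inv_rev, Spr.A_inv S ht, Spr.A_inv S hu, mul_assoc]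

theorem Spr.cube_symm {i j : Bool} {t u : MulAut M} (ht : t ∈ A i) (hu : u ∈ A j) (h3 : (t * u) ^ 3 = 1) :
    (u * t) ^ 3 = 1 := by
  have e : u * t = (t * u)⁻¹ := by rw [mul_inv_rev, Spr.A_inv S ht, Spr.A_inv S hu]
  rw [e, inv_pow, h3, inv_one]

/-- `[m, t] = b` implies `[b, u] = m` for `m ∈ B j` -/
theorem Spr.pair_apply {i j : Bool} (hij : i ≠ j) {t u : MulAut M} (ht : t ∈ A i) (ht1 : t ≠ 1) (hu : u ∈ A j)
    (h3 : (t * u) ^ 3 = 1) {m : M} (hm : m ∈ B j) : u (t m * m) = t m := by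
  have hb := Spr.braid S ht hu h3
  set b := t m * m with hbd
  have hbB : b ∈ B i := by
    have h1 := S.into i t ht m
    rwa [Spr.m_inv S] at h1
  have htm : t m = b * m := by rw [hbd, mul_assoc, S.sq, mul_one]
  set m' := u b * b with hm'
  have hm'B : m' ∈ B j := by
    have h1 := S.into j u hu b
    rwa [Spr.m_inv S] at h1
  have hub : u b = m' * b := by rw [hm', mul_assoc, S.sq, mul_one]
  have htb : t b = b := S.fix i t ht b hbB
  have hum : u m = m := S.fix j u hu m hm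
  have hum' : u m' = m' := S.fix j u hu m' hm'B
  -- `u t u m = m' b m`
  have h1 : (u * t * u) m = m' * b * m := by
    rw [MulAut.mul_apply, MulAut.mul_apply, hum, htm, map_mul, hub, hum]
  have h2 : (t * u * t) m = t m' * m := by
    rw [MulAut.mul_apply, MulAut.mul_apply, htm, map_mul, hub, hum, map_mul, map_mul, htb, htm]
    calc t m' * b * (b * m) = t m' * (b * b) * m := by group
      _ = t m' * m := by rw [S.sq, mul_one]
  rw [hb, h1] at h2
  have h4 : t m' = m' * b := (mul_right_cancel h2).symm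
  -- `m m' ∈ B i`
  have h5 : m * m' ∈ B i := by
    refine S.free i t ht ht1 _ ?_
    rw [map_mul, htm, h4]
    calc b * m * (m' * b) = b * (m * m') * b := by group
      _ = m * m' * b * b := by rw [S.comm b]
      _ = m * m' := by rw [mul_assoc, S.sq, mul_one]
  have h6 : m * m' = 1 := Spr.eq_one S hij h5 (mul_mem hm hm'B)
  have h7 : m' = m := by
    have := eq_inv_of_mul_eq_one_right h6
    rwa [Spr.m_inv S] at this
  rw [hub, h7, htm, S.comm]

/-- `u` is determined by `t`. -/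
theorem Spr.pair_unique {i j : Bool} (hij : i ≠ j) {t t' u : MulAut M} (ht : t ∈ A i) (ht1 : t ≠ 1)
    (ht' : t' ∈ A i) (ht1' : t' ≠ 1) (hu : u ∈ A j) (hu1 : u ≠ 1) (h3 : (t * u) ^ 3 = 1)
    (h3' : (t' * u) ^ 3 = 1) : t = t' := by
  refine Spr.ext_A S hij (fun m hm => ?_) fun m hm => ?_
  · rw [S.fix i t ht m hm, S.fix i t' ht' m hm]
  · have h1 := Spr.pair_apply S hij ht ht1 hu h3 hm
    have h2 := Spr.pair_apply S hij ht' ht1' hu h3' hm
    -- `u` fixes `t m * t' m`
    have hb : t m * m ∈ B i := by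
      have := S.into i t ht m
      rwa [Spr.m_inv S] at this
    have hb' : t' m * m ∈ B i := by
      have := S.into i t' ht' m
      rwa [Spr.m_inv S] at this
    have h4 : t m * m * (t' m * m) ∈ B j := by
      refine S.free j u hu hu1 _ ?_
      rw [map_mul, h1, h2]
      calc t m * t' m = t m * (m * m) * t' m := by rw [S.sq, mul_one]
        _ = t m * m * (m * t' m) := by group
        _ = t m * m * (t' m * m) := by rw [S.comm m]
    have h5 := Spr.eq_one S hij (mul_mem hb hb') h4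
    have h6 := eq_inv_of_mul_eq_one_left h5
    rw [Spr.m_inv S] at h6
    exact mul_right_cancel h6

/-- `(t u)³ = 1`: `u ≠ 1` -/
theorem Spr.pair_ne {i j : Bool} {t u : MulAut M} (ht : t ∈ A i) (ht1 : t ≠ 1) (h3 : (t * u) ^ 3 = 1)
    (_hu : u ∈ A j) : u ≠ 1 := by
  rintro rfl
  apply ht1
  rw [mul_one, pow_succ, pow_two, S.Asq i t ht, one_mul] at h3
  exact h3

/-- (O3) for both points -/
theorem SL2T.o3' [Finite M] (h : SL2T B A) (u : MulAut M) (hu : u ∈ A true) (hu1 : u ≠ 1) :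
    ∃ t ∈ A false, t ≠ 1 ∧ (t * u) ^ 3 = 1 := by
  have : Finite (MulAut M) := Finite.of_injective (fun a : MulAut M => (a : M → M)) DFunLike.coe_injective
  have hch : ∀ t : {t : A false // (t : MulAut M) ≠ 1}, ∃ u : {u : A true // (u : MulAut M) ≠ 1},
      (((t : A false) : MulAut M) * ((u : A true) : MulAut M)) ^ 3 = 1 := by
    rintro ⟨⟨t, ht⟩, ht1⟩
    obtain ⟨u, hu, h3⟩ := h.o3 t ht ht1
    exact ⟨⟨⟨u, hu⟩, Spr.pair_ne S ht ht1 h3 hu⟩, h3⟩
  choose f hf using hch
  have hinj : Function.Injective f := by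
    intro a b hab
    apply Subtype.ext
    apply Subtype.ext
    have h1 := hf a
    have h2 := hf b
    rw [hab] at h1
    exact Spr.pair_unique S (by decide) a.1.2 a.2 b.1.2 b.2 (f b).1.2 (f b).2 h1 h2
  have hcard : Nat.card {t : A false // (t : MulAut M) ≠ 1} = Nat.card {u : A true // (u : MulAut M) ≠ 1} := by
    rw [TI.card_ne_one, TI.card_ne_one, S.Acard]
  have hbij : Function.Bijective f := by
    rw [Nat.bijective_iff_injective_and_card]
    exact ⟨hinj, hcard⟩
  obtain ⟨t, ht⟩ := hbij.2 ⟨⟨u, hu⟩, hu1⟩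
  refine ⟨((t : A false) : MulAut M), t.1.2, t.2, ?_⟩
  have h1 := hf t
  rw [ht] at h1
  exact h1

end pair

/-! ### the set `J` -/

section J

variable {M : Type*} [Group M] {B : Bool → Subgroup M} {A : Bool → Subgroup (MulAut M)}

/-- The elements `t u t = u t u`, `t ∈ A false`, `u ∈ A true`, `(t u)³ = 1`. -/
def JJ (A : Bool → Subgroup (MulAut M)) : Set (MulAut M) :=
  {s | ∃ t ∈ A false, t ≠ 1 ∧ ∃ u ∈ A true, (t * u) ^ 3 = 1 ∧ s = t * u * t}

variable (S : Spr B A)
include S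

theorem Spr.JJ_sq {s : MulAut M} (hs : s ∈ JJ A) : s * s = 1 := by
  obtain ⟨t, ht, -, u, hu, -, rfl⟩ := hs
  calc t * u * t * (t * u * t) = t * u * (t * t) * u * t := by group
    _ = t * (u * u) * t := by rw [S.Asq _ t ht]; group
    _ = 1 := by rw [S.Asq _ u hu, mul_one, S.Asq _ t ht]

theorem Spr.JJ_inv {s : MulAut M} (hs : s ∈ JJ A) : s⁻¹ = s := inv_eq_of_mul_eq_one_left (Spr.JJ_sq S hs)

omit S in
theorem JJ_mem {s : MulAut M} (hs : s ∈ JJ A) : s ∈ A false ⊔ A true := by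
  obtain ⟨t, ht, -, u, hu, -, rfl⟩ := hs
  exact mul_mem (mul_mem (mem_L ht) (mem_L hu)) (mem_L ht)

/-- `s m = [m, t]` for `m ∈ B true` -/
theorem Spr.JJ_true {t u : MulAut M} (ht : t ∈ A false) (ht1 : t ≠ 1) (hu : u ∈ A true)
    (h3 : (t * u) ^ 3 = 1) {m : M} (hm : m ∈ B true) : (t * u * t) m = t m * m := by
  have hb := Spr.braid S ht hu h3
  rw [hb, MulAut.mul_apply, MulAut.mul_apply, S.fix true u hu m hm]
  have h1 := Spr.pair_apply S (by decide) ht ht1 hu h3 hm
  rw [map_mul, S.fix true u hu m hm] at h1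
  -- `u (t m) * m = t m`
  calc u (t m) = u (t m) * (m * m) := by rw [S.sq, mul_one]
    _ = u (t m) * m * m := by group
    _ = t m * m := by rw [h1]

/-- `s b = [b, u]` for `b ∈ B false` -/
theorem Spr.JJ_false {t u : MulAut M} (ht : t ∈ A false) (ht1 : t ≠ 1) (hu : u ∈ A true)
    (h3 : (t * u) ^ 3 = 1) {b : M} (hb : b ∈ B false) : (t * u * t) b = u b * b := by
  have hu1 := Spr.pair_ne S ht ht1 h3 hu
  have h1 := Spr.pair_apply S (by decide) hu hu1 ht (Spr.cube_symm S ht hu h3) hb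
  rw [map_mul, S.fix false t ht b hb] at h1
  rw [MulAut.mul_apply, MulAut.mul_apply, S.fix false t ht b hb]
  calc t (u b) = t (u b) * (b * b) := by rw [S.sq, mul_one]
    _ = t (u b) * b * b := by group
    _ = u b * b := by rw [h1]

theorem Spr.JJ_map_true {s : MulAut M} (hs : s ∈ JJ A) : (B true).map (s : M ≃* M).toMonoidHom = B false := by
  have hsL := JJ_mem hs
  obtain ⟨t, ht, ht1, u, hu, h3, rfl⟩ := hs
  rcases S.spread true false _ hsL with h1 | h1
  · exact h1
  · exfalso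
    obtain ⟨m, hm, hm1⟩ := (B true).bot_or_exists_ne_one.resolve_left (S.ne true)
    have h2 : (t * u * t) m ∈ (B true).map ((t * u * t : MulAut M) : M ≃* M).toMonoidHom ⊓ B false := by
      refine ⟨⟨m, hm, rfl⟩, ?_⟩
      rw [Spr.JJ_true S ht ht1 hu h3 hm]
      have := S.into false t ht m
      rwa [Spr.m_inv S] at this
    rw [h1] at h2
    apply hm1
    have h4 : (t * u * t) m = (t * u * t) 1 := by rw [map_one]; exact mem_bot.1 h2
    exact (t * u * t).injective h4

theorem Spr.JJ_map_false {s : MulAut M} (hs : s ∈ JJ A) : (B false).map (s : M ≃* M).toMonoidHom = B true := by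
  have h1 := map_inv' (Spr.JJ_map_true S hs)
  rwa [Spr.JJ_inv S hs] at h1

/-- `J` is closed under `s ↦ r s r`. -/
theorem Spr.JJ_conj {r s : MulAut M} (hr : r ∈ JJ A) (hs : s ∈ JJ A) : r * s * r ∈ JJ A := by
  have hrr := Spr.JJ_sq S hr
  have hri := Spr.JJ_inv S hr
  have hrL := JJ_mem hr
  have k1 := S.stab true false r hrL (Spr.JJ_map_true S hr)
  have k2 := S.stab false true r hrL (Spr.JJ_map_false S hr)
  obtain ⟨t, ht, ht1, u, hu, h3, rfl⟩ := hs
  have hb := Spr.braid S ht hu h3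
  have hu1 := Spr.pair_ne S ht ht1 h3 hu
  have e1 : r * u * r ∈ A false := by
    rw [← k1, mem_conj_iff, hri]
    have e : r * (r * u * r) * r = r * r * u * (r * r) := by group
    rw [e, hrr, one_mul, mul_one]
    exact hu
  have e2 : r * t * r ∈ A true := by
    rw [← k2, mem_conj_iff, hri]
    have e : r * (r * t * r) * r = r * r * t * (r * r) := by group
    rw [e, hrr, one_mul, mul_one]
    exact ht
  refine ⟨r * u * r, e1, ?_, r * t * r, e2, ?_, ?_⟩
  · intro h0
    apply hu1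
    calc u = r * r * u * (r * r) := by rw [hrr, one_mul, mul_one]
      _ = r * (r * u * r) * r := by group
      _ = 1 := by rw [h0, mul_one, hrr]
  · have e : r * u * r * (r * t * r) = r * (u * t) * r⁻¹ := by
      rw [hri]
      calc r * u * r * (r * t * r) = r * u * (r * r) * t * r := by group
        _ = r * (u * t) * r := by rw [hrr]; group
    rw [e, conj_pow, Spr.cube_symm S ht hu h3, mul_one, mul_inv_cancel]
  · rw [hb]
    calc r * (u * t * u) * r = r * u * (1 * t * 1) * u * r := by group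
      _ = r * u * (r * r * t * (r * r)) * u * r := by rw [hrr]
      _ = _ := by group

/-- two elements of `J` have a product of odd order. -/
theorem Spr.JJ_odd [Finite M] {r s : MulAut M} (hr : r ∈ JJ A) (hs : s ∈ JJ A) : Odd (orderOf (r * s)) := by
  obtain ⟨t, ht, ht1, u, hu, h3, rfl⟩ := hr
  obtain ⟨t', ht', ht1', u', hu', h3', rfl⟩ := hs
  by_cases htt : t = t'
  · subst htt
    have hu1 := Spr.pair_ne S ht ht1 h3 hu
    have hu1' := Spr.pair_ne S ht ht1 h3' hu'
    have h4 : u = u' := Spr.pair_unique S (by decide) hu hu1 hu' hu1' ht ht1 (Spr.cube_symm S ht hu h3)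
      (Spr.cube_symm S ht hu' h3')
    subst h4
    have h5 := Spr.JJ_sq S (⟨t, ht, ht1, u, hu, h3, rfl⟩ : t * u * t ∈ JJ A)
    rw [h5, orderOf_one]
    exact odd_one
  · have hti := Spr.A_inv S ht
    have hti' := Spr.A_inv S ht'
    have h1 := Spr.odd' S hu (Spr.pair_ne S ht ht1 h3 hu) hu' (Spr.pair_ne S ht' ht1' h3' hu')
      (y := t * t') (mem_L (mul_mem ht ht')) (by
        intro h4
        apply htt
        have h5 := Spr.eq_one_of_map S (i := false) (j := true) (by decide) (mul_mem ht ht') h4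
        have h6 := eq_inv_of_mul_eq_one_left h5
        rwa [hti'] at h6)
    have e : t * u * t * (t' * u' * t') = t * (u * (t * t' * u' * (t * t')⁻¹)) * t⁻¹ := by
      rw [mul_inv_rev, hti, hti']
      have htt2 := S.Asq false t ht
      calc t * u * t * (t' * u' * t') = t * u * t * t' * u' * t' * (t * t) := by rw [htt2]; group
        _ = _ := by group
    rw [e]
    have h2 : orderOf (t * (u * (t * t' * u' * (t * t')⁻¹)) * t⁻¹) = orderOf (u * (t * t' * u' * (t * t')⁻¹)) := by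
      have h3 := orderOf_injective (MulAut.conj t).toMonoidHom (MulAut.conj t).injective
        (u * (t * t' * u' * (t * t')⁻¹))
      exact h3
    rw [h2]
    exact h1

/-- **`J J J ⊆ J`** -/
theorem SL2T.jj [Finite M] (h : SL2T B A) {r s w : MulAut M} (hr : r ∈ JJ A) (hs : s ∈ JJ A) (hw : w ∈ JJ A) :
    r * s * w ∈ JJ A := by
  have hss := Spr.JJ_sq S hs
  have hrr := Spr.JJ_sq S hr
  have hsi := Spr.JJ_inv S hs
  have hri := Spr.JJ_inv S hr
  -- products of two elements of `J` fix both points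
  have hfix : ∀ {a b : MulAut M}, a ∈ JJ A → b ∈ JJ A → ∀ i, (B i).map ((a * b : MulAut M) : M ≃* M).toMonoidHom = B i := by
    intro a b ha hb i
    rw [map_mul']
    cases i
    · rw [Spr.JJ_map_false S hb, Spr.JJ_map_true S ha]
    · rw [Spr.JJ_map_true S hb, Spr.JJ_map_false S ha]
  have hL : ∀ {a b : MulAut M}, a ∈ JJ A → b ∈ JJ A → a * b ∈ A false ⊔ A true := fun ha hb =>
    mul_mem (JJ_mem ha) (JJ_mem hb)
  set x := r * s with hx
  -- `x ^ j s ∈ J`
  have hsx : s * x * s = x⁻¹ := by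
    rw [hx, mul_inv_rev, hri, hsi]
    calc s * (r * s) * s = s * r * (s * s) := by group
      _ = s * r := by rw [hss, mul_one]
  have hpow : ∀ j : ℕ, x ^ j * s ∈ JJ A := by
    intro j
    induction j using Nat.strong_induction_on with
    | _ j ih =>
      rcases j with _ | _ | j
      · rwa [pow_zero, one_mul]
      · rw [zero_add, pow_one, hx, mul_assoc, hss, mul_one]
        exact hr
      · -- `x^(j+2) s = x (x^j s) x⁻¹ = r s (x^j s) s r`
        have h1 := Spr.JJ_conj S hr (Spr.JJ_conj S hs (ih j (by omega)))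
        have h2 : s * (x ^ j * s) * s = (x ^ j)⁻¹ * s := by
          rw [← mul_pow_of_inv hss hsx]
          calc s * (x ^ j * s) * s = s * x ^ j * (s * s) := by group
            _ = s * x ^ j := by rw [hss, mul_one]
        have h3 : r * ((x ^ j)⁻¹ * s) * r = x ^ (j + 2) * s := by
          have hrx : r = x * s := by rw [hx, mul_assoc, hss, mul_one]
          have h4 : s * x = x⁻¹ * s := by
            have := mul_pow_of_inv hss hsx 1
            simpa using this
          have h5 : s * (x ^ j)⁻¹ = x ^ j * s := by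
            have h6 := mul_pow_of_inv hss hsx j
            calc s * (x ^ j)⁻¹ = s * ((x ^ j)⁻¹ * s) * s := by
                  rw [mul_assoc, mul_assoc, hss, mul_one]
              _ = s * (s * x ^ j) * s := by rw [h6]
              _ = x ^ j * s := by rw [← mul_assoc s s, hss, one_mul]
          calc r * ((x ^ j)⁻¹ * s) * r = x * (s * (x ^ j)⁻¹) * s * (x * s) := by rw [hrx]; group
            _ = x * (x ^ j * s) * s * (x * s) := by rw [h5]
            _ = x * x ^ j * (s * s) * x * s := by group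
            _ = x * x ^ j * x * s := by rw [hss, mul_one]
            _ = x ^ (j + 2) * s := by
                rw [← pow_succ', ← pow_succ]
        rw [h2, h3] at h1
        exact h1
  -- the square root
  obtain ⟨m, hm⟩ := Spr.JJ_odd S hr hs
  set y := x ^ (m + 1) with hy
  have hyy : y * y = x := by
    rw [hy, ← pow_add, show m + 1 + (m + 1) = (2 * m + 1) + 1 by ring, ← hm, pow_succ, pow_orderOf_eq_one,
      one_mul]
  have hysJ : y * s ∈ JJ A := hpow (m + 1)
  -- `y = (y s) s`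
  have hy2 : y = y * s * s := by rw [mul_assoc, hss, mul_one]
  -- `y` commutes with `w s`
  have hsy : s * y * s = y⁻¹ := by
    have h1 := mul_pow_of_inv hss hsx (m + 1)
    rw [hy, h1, mul_assoc, hss, mul_one]
  have hc : y * (w * s) = w * s * y := by
    refine h.dcw s (JJ_mem hs) hss (Spr.JJ_map_true S hs) (Spr.JJ_map_false S hs) y ?_ (w * s) (hL hw hs)
      (fun i => ?_) (hfix hw hs) hsy ?_
    · rw [hy2]; exact hL hysJ hs
    · rw [hy2]; exact hfix hysJ hs i
    · rw [mul_inv_rev, Spr.JJ_inv S hw, hsi]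
      calc s * (w * s) * s = s * w * (s * s) := by group
        _ = s * w := by rw [hss, mul_one]
  -- `(y s)(s w s)(y s) = y w s y s = y y w`
  have e : x * w = y * s * (s * w * s) * (y * s) := by
    calc x * w = y * y * w := by rw [hyy]
      _ = y * (y * (w * s)) * s := by
          calc y * y * w = y * y * w * (s * s) := by rw [hss, mul_one]
            _ = _ := by group
      _ = y * (w * s * y) * s := by rw [hc]
      _ = y * (s * s) * w * s * (y * s) := by rw [hss]; group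
      _ = _ := by group
  rw [e]
  exact Spr.JJ_conj S hysJ (Spr.JJ_conj S hs hw)

end J

end Cfsg.Agent.Omega.NO1.Field

end

section


/-!
# The SL₂ type over `Spr`: the subgroups `{[b, u] : u ∈ A true}`

* `KK A i b`, `card_KK`;
* `SL2T.exists_t` : `k ∈ KK A true b`, `k ≠ 1`: `[k, t] = b`, `t ∈ A false`;
* `SL2T.closure` : `k, k' ∈ KK A true b`, `t ∈ A false`, `[k', t] ≠ 1`: `k ∈ KK A true [k', t]`;
* `SL2T.line` : `[k, v] = [k', w]` for some `k' ∈ KK A true b`.
-/

set_option autoImplicit false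

namespace Cfsg.Agent.Omega.NO1.Field

open Subgroup Cfsg.Agent.Omega.NOne.Flat

section spr

variable {M : Type*} [Group M] {B : Bool → Subgroup M} {A : Bool → Subgroup (MulAut M)} (S : Spr B A)

/-- `{[b, a] : a ∈ A i}` -/
def KK (S : Spr B A) (i : Bool) (b : M) : Subgroup M where
  carrier := {k | ∃ a ∈ A i, k = a b * b}
  one_mem' := ⟨1, one_mem _, by rw [MulAut.one_apply, S.sq]⟩
  mul_mem' := by
    rintro _ _ ⟨a, ha, rfl⟩ ⟨a', ha', rfl⟩
    refine ⟨a * a', mul_mem ha ha', ?_⟩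
    have h1 : a' b * b ∈ B i := by
      have := S.into i a' ha' b
      rwa [Spr.m_inv S] at this
    have h3 : a (a' b) = a' b * b * a b := by
      calc a (a' b) = a (a' b * b * b) := by rw [mul_assoc, S.sq, mul_one]
        _ = a' b * b * a b := by rw [map_mul, S.fix i a ha _ h1]
    rw [MulAut.mul_apply, h3]
    calc a b * b * (a' b * b) = a' b * b * (a b * b) := S.comm _ _
      _ = _ := by group
  inv_mem' := by
    rintro _ ⟨a, ha, rfl⟩
    exact ⟨a, ha, Spr.m_inv S _⟩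

include S

theorem mem_KK {i : Bool} {b k : M} : k ∈ KK S i b ↔ ∃ a ∈ A i, k = a b * b := Iff.rfl

theorem comm_mem_B {i : Bool} {a : MulAut M} (ha : a ∈ A i) (b : M) : a b * b ∈ B i := by
  have := S.into i a ha b
  rwa [Spr.m_inv S] at this

theorem KK_le (i : Bool) (b : M) : KK S i b ≤ B i := by
  rintro _ ⟨a, ha, rfl⟩
  exact comm_mem_B S ha b

/-- `|{[b, a]}| = |A i|` for `b ∉ B i` -/
theorem card_KK {i : Bool} {b : M} (hb : b ∉ B i) : Nat.card (KK S i b) = Nat.card (A i) := by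
  refine (Nat.card_congr (Equiv.ofBijective (fun a : A i => (⟨(a : MulAut M) b * b, a, a.2, rfl⟩ : KK S i b))
    ⟨?_, ?_⟩)).symm
  · intro a a' haa
    have h1 : (a : MulAut M) b * b = (a' : MulAut M) b * b := congrArg Subtype.val haa
    have h2 := mul_right_cancel h1
    apply Subtype.ext
    by_contra hne
    apply hb
    have h3 : (a : MulAut M) * (a' : MulAut M) ∈ A i := mul_mem a.2 a'.2
    refine S.free i _ h3 (fun h4 => hne ?_) b ?_
    · have h5 := eq_inv_of_mul_eq_one_left h4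
      rwa [Spr.A_inv S a'.2] at h5
    · rw [MulAut.mul_apply, ← h2, Spr.apply_apply S a.2]
  · rintro ⟨_, a, ha, rfl⟩
    exact ⟨⟨a, ha⟩, rfl⟩

end spr

namespace SL2T

variable {M : Type*} [Group M] [Finite M] {B : Bool → Subgroup M} {A : Bool → Subgroup (MulAut M)}
  (S : Spr B A) (h : SL2T B A)
include S h

/-- the element of `J` over `u ∈ A true` -/
theorem exists_J_true {u : MulAut M} (hu : u ∈ A true) (hu1 : u ≠ 1) :
    ∃ s ∈ JJ A, ∀ b ∈ B false, s b = u b * b := by
  obtain ⟨t, ht, ht1, h3⟩ := SL2T.o3' S h u hu hu1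
  exact ⟨t * u * t, ⟨t, ht, ht1, u, hu, h3, rfl⟩, fun b hb => Spr.JJ_false S ht ht1 hu h3 hb⟩

omit [Finite M] in
/-- the element of `J` over `t ∈ A false` -/
theorem exists_J_false {t : MulAut M} (ht : t ∈ A false) (ht1 : t ≠ 1) :
    ∃ s ∈ JJ A, ∀ m ∈ B true, s m = t m * m := by
  obtain ⟨u, hu, h3⟩ := h.o3 t ht ht1
  exact ⟨t * u * t, ⟨t, ht, ht1, u, hu, h3, rfl⟩, fun b hb => Spr.JJ_true S ht ht1 hu h3 hb⟩

omit h [Finite M] in
/-- an element of `J` is `[·, u]` on `B false` -/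
theorem exists_u {s : MulAut M} (hs : s ∈ JJ A) : ∃ u ∈ A true, u ≠ 1 ∧ ∀ b ∈ B false, s b = u b * b := by
  obtain ⟨t, ht, ht1, u, hu, h3, rfl⟩ := hs
  exact ⟨u, hu, Spr.pair_ne S ht ht1 h3 hu, fun b hb => Spr.JJ_false S ht ht1 hu h3 hb⟩

/-- `k ∈ {[b, u]}`, `k ≠ 1`: `[k, t] = b` -/
theorem exists_t {b k : M} (hb : b ∈ B false) (hk : k ∈ KK S true b) (hk1 : k ≠ 1) :
    ∃ t ∈ A false, t ≠ 1 ∧ t k * k = b := by
  obtain ⟨u, hu, rfl⟩ := hk
  have hu1 : u ≠ 1 := by
    rintro rfl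
    apply hk1
    rw [MulAut.one_apply, S.sq]
  obtain ⟨t, ht, ht1, h3⟩ := SL2T.o3' S h u hu hu1
  refine ⟨t, ht, ht1, ?_⟩
  rw [Spr.pair_apply S (i := true) (j := false) (by decide) hu hu1 ht (Spr.cube_symm S ht hu h3) hb]
  calc u b * (u b * b) = u b * u b * b := by group
    _ = b := by rw [S.sq, one_mul]

omit h [Finite M] in
theorem JJ_apply {s : MulAut M} (hs : s ∈ JJ A) (m : M) : s (s m) = m := by
  rw [← MulAut.mul_apply, Spr.JJ_sq S hs, MulAut.one_apply]

omit h [Finite M] in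
/-- `J` maps `B true` to `B false`. -/
theorem JJ_mem_false {s : MulAut M} (hs : s ∈ JJ A) {m : M} (hm : m ∈ B true) : s m ∈ B false := by
  rw [← Spr.JJ_map_true S hs]
  exact ⟨m, hm, rfl⟩

omit h [Finite M] in
theorem JJ_mem_true {s : MulAut M} (hs : s ∈ JJ A) {m : M} (hm : m ∈ B false) : s m ∈ B true := by
  rw [← Spr.JJ_map_false S hs]
  exact ⟨m, hm, rfl⟩

omit h [Finite M] in
/-- `s b ∈ {[b, u]}` for `s ∈ J` -/
theorem J_mem_KK {s : MulAut M} (hs : s ∈ JJ A) {b : M} (hb : b ∈ B false) : s b ∈ KK S true b := by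
  obtain ⟨u, hu, -, hub⟩ := exists_u S hs
  exact ⟨u, hu, hub b hb⟩

/-- `1 ≠ k ∈ {[b, u]}` is `s b`, `s ∈ J`. -/
theorem exists_J_of_mem {b k : M} (hb : b ∈ B false) (hk : k ∈ KK S true b) (hk1 : k ≠ 1) :
    ∃ s ∈ JJ A, s b = k := by
  obtain ⟨u, hu, rfl⟩ := hk
  have hu1 : u ≠ 1 := by
    rintro rfl
    apply hk1
    rw [MulAut.one_apply, S.sq]
  obtain ⟨s, hs, hsb⟩ := exists_J_true S h hu hu1
  exact ⟨s, hs, hsb b hb⟩

/-- `k ∈ {[b', u]}` for `b' = [k', t] ≠ 1` -/
theorem closure {b k k' : M} (hb : b ∈ B false) (hk : k ∈ KK S true b) (hk' : k' ∈ KK S true b)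
    {t : MulAut M} (ht : t ∈ A false) (hne : t k' * k' ≠ 1) : k ∈ KK S true (t k' * k') := by
  by_cases hk1 : k = 1
  · rw [hk1]; exact one_mem _
  have hk1' : k' ≠ 1 := by
    rintro rfl
    exact hne (by rw [map_one, mul_one])
  have ht1 : t ≠ 1 := by
    rintro rfl
    exact hne (by rw [MulAut.one_apply, S.sq])
  have hkB := KK_le S true b hk'
  obtain ⟨s, hs, hsb⟩ := exists_J_of_mem S h hb hk hk1
  obtain ⟨s', hs', hsb'⟩ := exists_J_of_mem S h hb hk' hk1'
  obtain ⟨r, hr, hrm⟩ := exists_J_false S h ht ht1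
  have h1 := SL2T.jj S h hs hs' hr
  have h2 : (s * s' * r) (t k' * k') = k := by
    rw [← hrm k' hkB, MulAut.mul_apply, MulAut.mul_apply, JJ_apply S hr, ← hsb', JJ_apply S hs', hsb]
  have h3 : t k' * k' ∈ B false := comm_mem_B S ht k'
  rw [← h2]
  exact J_mem_KK S h1 h3

/-- `[k, v] = [k', w]` -/
theorem line {b k : M} (hb : b ∈ B false) (hk : k ∈ KK S true b) {v w : MulAut M} (hv : v ∈ A false)
    (hw : w ∈ A false) (hw1 : w ≠ 1) : ∃ k' ∈ KK S true b, v k * k = w k' * k' := by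
  by_cases hk1 : k = 1
  · refine ⟨1, one_mem _, ?_⟩
    rw [hk1, map_one, map_one]
  by_cases hv1 : v = 1
  · refine ⟨1, one_mem _, ?_⟩
    rw [hv1, MulAut.one_apply, S.sq, map_one, mul_one]
  have hkB := KK_le S true b hk
  obtain ⟨s, hs, hsb⟩ := exists_J_of_mem S h hb hk hk1
  obtain ⟨r, hr, hrm⟩ := exists_J_false S h hv hv1
  obtain ⟨r', hr', hrm'⟩ := exists_J_false S h hw hw1
  have h1 := SL2T.jj S h hr' hr hs
  have hmem := J_mem_KK S h1 hb
  refine ⟨_, hmem, ?_⟩
  rw [← hrm k hkB, ← hrm' _ (KK_le S true b hmem), MulAut.mul_apply, MulAut.mul_apply, JJ_apply S hr', hsb]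

end SL2T

end Cfsg.Agent.Omega.NO1.Field

end
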