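import Cfsg.Agent.Mrg.Omega.NO1.Field.KOne
import Cfsg.Agent.Mrg.Omega.NO1.Field.NoSz
import Cfsg.Agent.Mrg.Omega.NO1.Field.RPlus
import Cfsg.Agent.Mrg.Omega.NO1.SE.Inst


/-!
# THEOREM FIELD, closed: `k1All`, `HypF.sc`, `HypF.NN_le`, the class of a frame

* `sl2Spr : SL2Spr`, `k1All : K1All`;
* `HypF.sc` : `SC V F` (every `q`), `HypF.NN_le` : `N_F ≤ C_G(V)`;
* `cls_fr` : `Cls V |V : E_F| (mbs R W_F)` for every frame `Fr S P M F` and `R : RepM`.
-/

set_option autoImplicit false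
set_option linter.unusedSectionVars false

namespace Cfsg.Agent.Omega.NO1.Field

open Subgroup Cfsg Cfsg.Agent.ZN
open Cfsg.Agent.Omega.NOne.Flat (NN WW)
open Cfsg.Agent.Omega.NO1.Alpha (SC Cls mbs)

universe u

theorem sl2Spr : SL2Spr.{u} := fun _ _ _ _ _ S h4 => SE.sl2t_or_isSz S h4

/-- **FIELD-6** -/
theorem k1All : K1All.{u} := k1All_of sl2Spr noSz'

section

variable {G : Type u} [Group G] [Finite G] {V F : Subgroup G}

/-- `|V / E|` is `2` or `≥ 4`. -/
theorem relIndex_two_or (h : NOne.Flat.Hyp V F) :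
    (NOne.Flat.EE V F).relIndex V = 2 ∨ 4 ≤ (NOne.Flat.EE V F).relIndex V := by
  have hne1 : (NOne.Flat.EE V F).relIndex V ≠ 1 := by
    intro h2
    rw [relIndex_eq_one] at h2
    obtain ⟨w, hw, hwE⟩ := h.exists_not_mem
    exact hwE (h2 hw)
  have : Fact (Nat.Prime 2) := ⟨Nat.prime_two⟩
  have h3 : (NOne.Flat.EE V F).relIndex V ∣ Nat.card V :=
    Dvd.intro_left _ (NOne.Flat.card_mul_relIndex' (inf_le_left : NOne.Flat.EE V F ≤ V))
  obtain ⟨n, hn⟩ := IsPGroup.iff_card.1 h.V_isPGroup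
  rw [hn] at h3
  obtain ⟨k, -, hk⟩ := (Nat.dvd_prime_pow Nat.prime_two).1 h3
  rw [hk] at hne1 ⊢
  rcases k with _ | _ | k
  · exact absurd rfl hne1
  · exact Or.inl rfl
  · right
    rw [pow_succ, pow_succ]
    have : 0 < 2 ^ k := Nat.pos_of_ne_zero (by positivity)
    omega

/-- **`SC`**, every `q` -/
theorem HypF.sc (h : HypF V F) : SC V F := by
  rcases relIndex_two_or h.toHyp with h2 | h4
  · exact Alpha.sc_two h.toHyp h2
  · exact sc_of sl2Spr noSz' h h4

/-- **`N_F ≤ C_G(V)`** -/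
theorem HypF.NN_le (h : HypF V F) : NN V F ≤ centralizer (V : Set G) := by
  intro n hn
  refine h.nn (h.toHyp.W_norm_V hn.1) (fun v hv => h.toHyp.c_mem_F hv hn) fun e he => ?_
  exact NOne.Flat.Hyp.c_E_NN he hn

end

section frames

variable {G : Type u} [Group G] [Finite G] {S : Sylow 2 G} {P M F : Subgroup G}

/-- **The class of a frame** -/
theorem cls_fr (h : Fr S P M F) {Y V : Type u} [Group Y] [AddCommGroup V] [DistribMulAction Y V] {T : Sylow 2 Y}
    {Mx : Subgroup Y} (R : RepM (S : Subgroup G) P (zl (S : Subgroup G) M) Y V T Mx) :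
    Cls V ((NOne.Flat.EE (zl (S : Subgroup G) M) F).relIndex (zl (S : Subgroup G) M))
      (mbs R (WW (zl (S : Subgroup G) M) F)) :=
  Alpha.cls_of_hyp R h.hyp (h.W_le_S.trans h.cfg.S_le) (h.hypF).NN_le (h.hypF).sc (Alpha.hc_elem h)

end frames

end Cfsg.Agent.Omega.NO1.Field
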